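import Mathlib
import Cfsg.Agent.Lib.Helper96.Wielandt
import Cfsg.Agent.Lib.Helper96.NilpMax
import Cfsg.Agent.Lib.Helper24.NilpCrit

set_option autoImplicit false
set_option linter.style.haveILetI false

/-! Sylow parts and their complements in a nilpotent subgroup. -/

namespace Cfsg.Agent.Lib.Helper96.KW

open Subgroup

variable {G : Type*} [Group G]

/-- the subgroup generated by the `p`-elements of `A` -/
def sp (A : Subgroup G) (p : ℕ) : Subgroup G :=
  Subgroup.closure {x : G | x ∈ A ∧ ∃ k : ℕ, x ^ p ^ k = 1}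

/-- the subgroup generated by the `p'`-elements of `A` -/
def sc (A : Subgroup G) (p : ℕ) : Subgroup G :=
  Subgroup.closure {x : G | x ∈ A ∧ (orderOf x).Coprime p}

theorem sp_le (A : Subgroup G) (p : ℕ) : sp A p ≤ A :=
  (Subgroup.closure_le _).mpr (fun _ hx => hx.1)

theorem sc_le (A : Subgroup G) (p : ℕ) : sc A p ≤ A :=
  (Subgroup.closure_le _).mpr (fun _ hx => hx.1)

theorem mem_sp_of {A : Subgroup G} {p : ℕ} {x : G} (hx : x ∈ A) (k : ℕ) (h : x ^ p ^ k = 1) :
    x ∈ sp A p := Subgroup.subset_closure ⟨hx, k, h⟩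

theorem mem_sc_of {A : Subgroup G} {p : ℕ} {x : G} (hx : x ∈ A) (h : (orderOf x).Coprime p) :
    x ∈ sc A p := Subgroup.subset_closure ⟨hx, h⟩

theorem conj_mem_closure {S : Set G} {g : G} (hS : ∀ x ∈ S, g * x * g⁻¹ ∈ S) {x : G}
    (hx : x ∈ Subgroup.closure S) : g * x * g⁻¹ ∈ Subgroup.closure S := by
  induction hx using Subgroup.closure_induction with
  | mem y hy => exact Subgroup.subset_closure (hS y hy)
  | one => simp
  | mul y z _ _ ihy ihz =>
    have : g * (y * z) * g⁻¹ = (g * y * g⁻¹) * (g * z * g⁻¹) := by group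
    rw [this]; exact mul_mem ihy ihz
  | inv y _ ih =>
    have : g * y⁻¹ * g⁻¹ = (g * y * g⁻¹)⁻¹ := by group
    rw [this]; exact inv_mem ih

theorem mem_normalizer_closure {S : Set G} {g : G} (hS : ∀ x ∈ S, g * x * g⁻¹ ∈ S)
    (hS' : ∀ x ∈ S, g⁻¹ * x * g ∈ S) :
    g ∈ normalizer ((Subgroup.closure S : Subgroup G) : Set G) := by
  rw [mem_normalizer_iff]
  intro h
  constructor
  · intro hh
    exact conj_mem_closure hS hh
  · intro hh
    have h2 : ∀ x ∈ S, g⁻¹ * x * g⁻¹⁻¹ ∈ S := by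
      intro x hx; rw [inv_inv]; exact hS' x hx
    have := conj_mem_closure h2 hh
    have e : g⁻¹ * (g * h * g⁻¹) * g⁻¹⁻¹ = h := by group
    rwa [e] at this

theorem conj_mem_of_mem_normalizer {A : Subgroup G} {g x : G}
    (hg : g ∈ normalizer (A : Set G)) (hx : x ∈ A) : g * x * g⁻¹ ∈ A :=
  (mem_normalizer_iff.mp hg x).mp hx

theorem conj_mem_of_mem_normalizer' {A : Subgroup G} {g x : G}
    (hg : g ∈ normalizer (A : Set G)) (hx : x ∈ A) : g⁻¹ * x * g ∈ A := by
  have := (mem_normalizer_iff.mp (inv_mem hg) x).mp hx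
  rwa [inv_inv] at this

theorem orderOf_conj' (g x : G) : orderOf (g * x * g⁻¹) = orderOf x := by
  have := MulEquiv.orderOf_eq (MulAut.conj g) x
  rwa [MulAut.conj_apply] at this

theorem normalizer_le_sp (A : Subgroup G) (p : ℕ) :
    normalizer (A : Set G) ≤ normalizer (sp A p : Set G) := by
  intro g hg
  apply mem_normalizer_closure
  · rintro x ⟨hx, k, hk⟩
    refine ⟨conj_mem_of_mem_normalizer hg hx, k, ?_⟩
    rw [conj_pow, hk]; simp
  · rintro x ⟨hx, k, hk⟩
    refine ⟨conj_mem_of_mem_normalizer' hg hx, k, ?_⟩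
    have : g⁻¹ * x * g = g⁻¹ * x * g⁻¹⁻¹ := by rw [inv_inv]
    rw [this, conj_pow, hk]; simp

theorem normalizer_le_sc (A : Subgroup G) (p : ℕ) :
    normalizer (A : Set G) ≤ normalizer (sc A p : Set G) := by
  intro g hg
  apply mem_normalizer_closure
  · rintro x ⟨hx, hk⟩
    refine ⟨conj_mem_of_mem_normalizer hg hx, ?_⟩
    have : orderOf (g * x * g⁻¹) = orderOf x := orderOf_conj' g x
    rw [this]; exact hk
  · rintro x ⟨hx, hk⟩
    refine ⟨conj_mem_of_mem_normalizer' hg hx, ?_⟩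
    have : g⁻¹ * x * g = g⁻¹ * x * g⁻¹⁻¹ := by rw [inv_inv]
    rw [this]
    have : orderOf (g⁻¹ * x * g⁻¹⁻¹) = orderOf x := orderOf_conj' g⁻¹ x
    rw [this]; exact hk

theorem le_normalizer_sp (A : Subgroup G) (p : ℕ) : A ≤ normalizer (sp A p : Set G) :=
  le_normalizer.trans (normalizer_le_sp A p)

theorem le_normalizer_sc (A : Subgroup G) (p : ℕ) : A ≤ normalizer (sc A p : Set G) :=
  le_normalizer.trans (normalizer_le_sc A p)

theorem sp_le_sc (A : Subgroup G) {t r : ℕ} (ht : t.Prime) (hr : r.Prime) (htr : t ≠ r) :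
    sp A t ≤ sc A r := by
  rw [sp, Subgroup.closure_le]
  rintro x ⟨hx, k, hk⟩
  apply mem_sc_of hx
  have h1 : orderOf x ∣ t ^ k := orderOf_dvd_of_pow_eq_one hk
  exact Nat.Coprime.coprime_dvd_left h1
    (Nat.Coprime.pow_left k ((Nat.coprime_primes ht hr).mpr htr))

/-- structure of the parts of a finite nilpotent subgroup -/
theorem parts [Finite G] {A : Subgroup G} (hA : Group.IsNilpotent A) (p : ℕ) [hp : Fact p.Prime] :
    IsPGroup p (sp A p) ∧ (Nat.card (sc A p)).Coprime p ∧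
      Nat.card (sp A p) * Nat.card (sc A p) = Nat.card A := by
  haveI := hA
  obtain ⟨P, N, hN, hcompl⟩ := hasNormalPComplement_of_isNilpotent hA p
  have hNidx : N.index = Nat.card (P : Subgroup A) := hcompl.symm.index_eq_card
  have hPidx : (P : Subgroup A).index = Nat.card N := hcompl.index_eq_card
  have hNcop : (Nat.card N).Coprime p := by
    rw [← hPidx]
    exact ((Nat.Prime.coprime_iff_not_dvd hp.out).mpr P.not_dvd_index).symm
  obtain ⟨n, hn⟩ := IsPGroup.iff_card.mp P.2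
  have hsp : sp A p = (P : Subgroup A).map A.subtype := by
    apply le_antisymm
    · rw [sp, Subgroup.closure_le]
      rintro x ⟨hx, k, hk⟩
      refine ⟨⟨x, hx⟩, ?_, rfl⟩
      have hZ : IsPGroup p (Subgroup.zpowers (⟨x, hx⟩ : A)) := by
        apply IsPGroup.of_card (n := (Nat.factorization (orderOf (⟨x, hx⟩ : A))) p)
        rw [Nat.card_zpowers]
        have h1 : orderOf (⟨x, hx⟩ : A) ∣ p ^ k := by
          apply orderOf_dvd_of_pow_eq_one
          ext; simpa using hk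
        obtain ⟨j, _, hj⟩ := (Nat.dvd_prime_pow hp.out).mp h1
        rw [hj, hp.out.factorization_pow]; simp
      obtain ⟨Q, hQ⟩ := hZ.exists_le_sylow
      have : Q = P := by
        haveI := (Sylow.unique_of_normal P inferInstance)
        exact Subsingleton.elim Q P
      rw [← this]
      exact hQ (Subgroup.mem_zpowers _)
    · rintro y ⟨x, hx, rfl⟩
      obtain ⟨k, hk⟩ := P.2 ⟨x, hx⟩
      refine mem_sp_of x.2 k ?_
      have := congrArg (fun z : (P : Subgroup A) => ((z : A) : G)) hk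
      simpa using this
  have hsc : sc A p = N.map A.subtype := by
    apply le_antisymm
    · rw [sc, Subgroup.closure_le]
      rintro x ⟨hx, hk⟩
      refine ⟨⟨x, hx⟩, ?_, rfl⟩
      apply Cfsg.Agent.Lib.Helper24.mem_of_pow_mem_of_coprime N (⟨x, hx⟩ : A)
        (a := orderOf (⟨x, hx⟩ : A)) (b := N.index)
      · rw [hNidx, hn]
        have : orderOf (⟨x, hx⟩ : A) = orderOf x := Subgroup.orderOf_mk x hx
        rw [this]
        exact Nat.Coprime.pow_right n hk
      · rw [pow_orderOf_eq_one]; exact one_mem _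
      · exact Subgroup.pow_index_mem N _
    · rintro y ⟨x, hx, rfl⟩
      apply mem_sc_of x.2
      have h1 : orderOf (x : G) = orderOf x := Subgroup.orderOf_coe x
      have h2 : orderOf (⟨x, hx⟩ : N) ∣ Nat.card N := orderOf_dvd_natCard _
      have h3 : orderOf (⟨x, hx⟩ : N) = orderOf x := Subgroup.orderOf_mk x hx
      rw [h1, ← h3]
      exact Nat.Coprime.coprime_dvd_left h2 hNcop
  have c1 : Nat.card (sp A p) = Nat.card (P : Subgroup A) := by
    rw [hsp]; exact Subgroup.card_map_of_injective A.subtype_injective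
  have c2 : Nat.card (sc A p) = Nat.card N := by
    rw [hsc]; exact Subgroup.card_map_of_injective A.subtype_injective
  refine ⟨?_, ?_, ?_⟩
  · rw [hsp]; exact P.2.map _
  · rw [c2]; exact hNcop
  · rw [c1, c2, mul_comm]; exact hcompl.card_mul_card

theorem pow_eq_one_of_mem_sp [Finite G] {A : Subgroup G} (hA : Group.IsNilpotent A) {p : ℕ}
    [Fact p.Prime] {x : G} (hx : x ∈ sp A p) : ∃ k : ℕ, x ^ p ^ k = 1 := by
  obtain ⟨k, hk⟩ := (parts hA p).1 ⟨x, hx⟩
  refine ⟨k, ?_⟩
  have := congrArg (fun z : sp A p => (z : G)) hk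
  simpa using this

theorem coprime_of_mem_sc [Finite G] {A : Subgroup G} (hA : Group.IsNilpotent A) {p : ℕ}
    [Fact p.Prime] {x : G} (hx : x ∈ sc A p) : (orderOf x).Coprime p :=
  Nat.Coprime.coprime_dvd_left (Subgroup.orderOf_dvd_natCard _ hx) (parts hA p).2.1

theorem orderOf_coprime_of_sp_sc [Finite G] {A : Subgroup G} (hA : Group.IsNilpotent A) {p : ℕ}
    [hp : Fact p.Prime] {x y : G} (hx : x ∈ sp A p) (hy : y ∈ sc A p) :
    (orderOf x).Coprime (orderOf y) := by
  obtain ⟨k, hk⟩ := pow_eq_one_of_mem_sp hA hx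
  have h1 : orderOf x ∣ p ^ k := orderOf_dvd_of_pow_eq_one hk
  exact Nat.Coprime.coprime_dvd_left h1 (Nat.Coprime.pow_left k (coprime_of_mem_sc hA hy).symm)

theorem commute_of_mem_of_coprime [Finite G] {A : Subgroup G} (hA : Group.IsNilpotent A)
    {x y : G} (hx : x ∈ A) (hy : y ∈ A) (h : (orderOf x).Coprime (orderOf y)) :
    x * y = y * x := by
  have h1 : (orderOf (⟨x, hx⟩ : A)).Coprime (orderOf (⟨y, hy⟩ : A)) := by
    rw [Subgroup.orderOf_mk, Subgroup.orderOf_mk]; exact h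
  have := (commute_of_coprime_orderOf hA h1).eq
  exact congrArg (fun z : A => (z : G)) this

theorem commute_sp_sc [Finite G] {A : Subgroup G} (hA : Group.IsNilpotent A) {p : ℕ}
    [hp : Fact p.Prime] {x y : G} (hx : x ∈ sp A p) (hy : y ∈ sc A p) : x * y = y * x :=
  commute_of_mem_of_coprime hA (sp_le A p hx) (sc_le A p hy) (orderOf_coprime_of_sp_sc hA hx hy)

theorem exists_mul_sp_sc [Finite G] {A : Subgroup G} {p : ℕ} [hp : Fact p.Prime] {a : G}
    (ha : a ∈ A) : ∃ x ∈ sp A p, ∃ y ∈ sc A p, a = x * y := by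
  obtain ⟨g₁, g₂, h1, h2, h3, ⟨k, hk⟩, h5⟩ := exists_decomp_p_pprime hp.out a
  have hz : Subgroup.zpowers a ≤ A := (Subgroup.zpowers_le).mpr ha
  exact ⟨g₁, mem_sp_of (hz h1) k hk, g₂, mem_sc_of (hz h2) h5, h3⟩

theorem le_sp_of_isPGroup {A D : Subgroup G} {p : ℕ} (hD : IsPGroup p D) (hDA : D ≤ A) :
    D ≤ sp A p := by
  intro d hd
  obtain ⟨k, hk⟩ := hD ⟨d, hd⟩
  refine mem_sp_of (hDA hd) k ?_
  have := congrArg (fun z : D => (z : G)) hk
  simpa using this

theorem le_sc_of_coprime {A K : Subgroup G} {p : ℕ} (hK : K ≤ A)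
    (hc : (Nat.card K).Coprime p) : K ≤ sc A p := by
  intro d hd
  exact mem_sc_of (hK hd) (Nat.Coprime.coprime_dvd_left (Subgroup.orderOf_dvd_natCard _ hd) hc)

theorem sp_inf_sc [Finite G] {A : Subgroup G} (hA : Group.IsNilpotent A) (p : ℕ)
    [hp : Fact p.Prime] : sp A p ⊓ sc A p = ⊥ := by
  refine (Subgroup.disjoint_of_coprime_natCard ?_).eq_bot
  obtain ⟨n, hn⟩ := IsPGroup.iff_card.mp (parts hA p).1
  rw [hn]
  exact Nat.Coprime.pow_left n (parts hA p).2.1.symm

theorem sp_sup_sc [Finite G] (A : Subgroup G) (p : ℕ) [hp : Fact p.Prime] :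
    sp A p ⊔ sc A p = A := by
  apply le_antisymm (sup_le (sp_le A p) (sc_le A p))
  intro a ha
  obtain ⟨x, hx, y, hy, rfl⟩ := exists_mul_sp_sc (p := p) ha
  exact mul_mem (le_sup_left (a := sp A p) hx) (le_sup_right (b := sc A p) hy)

theorem orderOf_conj'' (g x : G) : orderOf (g⁻¹ * x * g) = orderOf x := by
  have := orderOf_conj' g⁻¹ x
  rwa [inv_inv] at this

theorem dvd_card_of_ne_bot [Finite G] {t : ℕ} [Fact t.Prime] {D : Subgroup G} (hD : IsPGroup t D)
    (hne : D ≠ ⊥) : t ∣ Nat.card D := by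
  obtain ⟨n, hn⟩ := IsPGroup.iff_card.mp hD
  rcases Nat.eq_zero_or_pos n with h0 | h0
  · exfalso
    apply hne
    rw [h0, pow_zero] at hn
    exact (Subgroup.card_eq_one).mp hn
  · rw [hn]; exact dvd_pow_self t h0.ne'

theorem eq_top_of_comap_conj {a : G} {N : Subgroup G}
    (h : N.comap (MulAut.conj a).toMonoidHom = ⊤) : N = ⊤ := by
  rw [eq_top_iff]
  intro g _
  have h1 : a⁻¹ * g * a ∈ N.comap (MulAut.conj a).toMonoidHom := h ▸ mem_top _
  rw [mem_comap] at h1
  simp only [MulEquiv.coe_toMonoidHom, MulAut.conj_apply] at h1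
  have e : a * (a⁻¹ * g * a) * a⁻¹ = g := by group
  rwa [e] at h1

theorem mem_comap_conj {a x : G} {N : Subgroup G} :
    x ∈ N.comap (MulAut.conj a).toMonoidHom ↔ a * x * a⁻¹ ∈ N := by
  rw [mem_comap]
  simp only [MulEquiv.coe_toMonoidHom, MulAut.conj_apply]

theorem conj_mem_normalizer_of_commute [Finite G] {D : Subgroup G} {a y : G}
    (h : ∀ d ∈ D, (a⁻¹ * d * a) * y = y * (a⁻¹ * d * a)) :
    a * y * a⁻¹ ∈ normalizer (D : Set G) := by
  apply Subgroup.mem_normalizer_fintype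
  intro d hd
  have e : a * y * a⁻¹ * d * (a * y * a⁻¹)⁻¹ = a * (y * (a⁻¹ * d * a) * y⁻¹) * a⁻¹ := by group
  have e2 : a * (y * (a⁻¹ * d * a) * y⁻¹) * a⁻¹ = d := by
    rw [← h d hd]; group
  rw [e, e2]
  exact hd

theorem mem_normalizer_of_commute [Finite G] {D : Subgroup G} {y : G}
    (h : ∀ d ∈ D, d * y = y * d) : y ∈ normalizer (D : Set G) := by
  apply Subgroup.mem_normalizer_fintype
  intro d hd
  have e : y * d * y⁻¹ = d := by rw [← h d hd]; group
  rw [e]
  exact hd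

end Cfsg.Agent.Lib.Helper96.KW
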