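import Mathlib
import Cfsg.Agent.Lib.Helper96.KW.Parts
import Cfsg.Agent.Lib.Helper3.Burnside
import Cfsg.Agent.Lib.Helper55.InvolSylow
import Cfsg.Agent.S0562

set_option autoImplicit false
set_option linter.style.haveILetI false

/-! Minimal counterexample configuration for Wielandt's theorem on products of nilpotent groups
of coprime orders. -/

namespace Cfsg.Agent.Lib.Helper96.KW

open Subgroup
open scoped Pointwise

variable {G : Type*} [Group G] [Finite G]

/-- the centre of a subgroup, as a subgroup of the ambient group -/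
def ZZ (A : Subgroup G) : Subgroup G := A ⊓ centralizer (A : Set G)

theorem mem_ZZ {A : Subgroup G} {z : G} : z ∈ ZZ A ↔ z ∈ A ∧ ∀ a ∈ A, a * z = z * a := by
  rw [ZZ, mem_inf, mem_centralizer_iff]
  rfl

structure MC (A B : Subgroup G) : Prop where
  nilA : Group.IsNilpotent A
  nilB : Group.IsNilpotent B
  cop : (Nat.card A).Coprime (Nat.card B)
  fac : ∀ g : G, ∃ a ∈ A, ∃ b ∈ B, g = a * b
  simple : IsSimpleGroup G
  nonsolv : ¬ Group.IsSolvable G
  ih : ∀ L : Subgroup G, L ≠ ⊤ → (∀ l ∈ L, ∃ a ∈ A ⊓ L, ∃ b ∈ B ⊓ L, l = a * b) → Group.IsSolvable L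

namespace MC

variable {A B : Subgroup G} (c : MC A B)
include c

theorem fac' (g : G) : ∃ b ∈ B, ∃ a ∈ A, g = b * a := by
  obtain ⟨a, ha, b, hb, h⟩ := c.fac g⁻¹
  exact ⟨b⁻¹, inv_mem hb, a⁻¹, inv_mem ha, by rw [← mul_inv_rev, ← h, inv_inv]⟩

theorem symm : MC B A where
  nilA := c.nilB
  nilB := c.nilA
  cop := c.cop.symm
  fac := c.fac'
  simple := c.simple
  nonsolv := c.nonsolv
  ih := by
    intro L hL hfac
    apply c.ih L hL
    intro l hl
    obtain ⟨b, hb, a, ha, h⟩ := hfac l⁻¹ (inv_mem hl)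
    exact ⟨a⁻¹, inv_mem ha, b⁻¹, inv_mem hb, by rw [← mul_inv_rev, ← h, inv_inv]⟩

theorem inf_eq_bot : A ⊓ B = ⊥ := (Subgroup.disjoint_of_coprime_natCard c.cop).eq_bot

theorem card_mul : Nat.card A * Nat.card B = Nat.card G := by
  have h2 : (A : Set G) * (B : Set G) = Set.univ := by
    ext g
    simp only [Set.mem_univ, iff_true]
    obtain ⟨a, ha, b, hb, h⟩ := c.fac g
    exact Set.mem_mul.mpr ⟨a, ha, b, hb, h.symm⟩
  exact (Subgroup.isComplement'_of_disjoint_and_mul_eq_univ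
    (Subgroup.disjoint_of_coprime_natCard c.cop) h2).card_mul_card

theorem index_A : A.index = Nat.card B := by
  have h1 := Subgroup.card_mul_index A
  rw [← c.card_mul] at h1
  exact Nat.eq_of_mul_eq_mul_left Nat.card_pos h1

theorem eq_of_mul_eq {a a' b b' : G} (ha : a ∈ A) (ha' : a' ∈ A) (hb : b ∈ B) (hb' : b' ∈ B)
    (h : a * b = a' * b') : a = a' ∧ b = b' := by
  have h1 : a'⁻¹ * a = b' * b⁻¹ := by
    have : a'⁻¹ * (a * b) * b⁻¹ = a'⁻¹ * (a' * b') * b⁻¹ := by rw [h]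
    have e1 : a'⁻¹ * (a * b) * b⁻¹ = a'⁻¹ * a := by group
    have e2 : a'⁻¹ * (a' * b') * b⁻¹ = b' * b⁻¹ := by group
    rw [e1, e2] at this; exact this
  have h2 : a'⁻¹ * a ∈ A ⊓ B := by
    refine Subgroup.mem_inf.mpr ⟨A.mul_mem (A.inv_mem ha') ha, ?_⟩
    rw [h1]; exact B.mul_mem hb' (B.inv_mem hb)
  rw [c.inf_eq_bot, mem_bot] at h2
  have h3 : a = a' := by
    have := congrArg (fun x => a' * x) h2
    simpa using this
  refine ⟨h3, ?_⟩
  subst h3
  exact mul_left_cancel h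

theorem not_solvable_of_eq_top {L : Subgroup G} (hL : L = ⊤) : ¬ Group.IsSolvable L := by
  intro h
  apply c.nonsolv
  subst hL
  exact Group.isSolvable_of_surjective (f := (⊤ : Subgroup G).subtype)
    (fun g => ⟨⟨g, mem_top g⟩, rfl⟩)

theorem ne_bot : A ≠ ⊥ := by
  intro hA
  have hB : B = ⊤ := by
    rw [eq_top_iff]
    intro g _
    obtain ⟨a, ha, b, hb, rfl⟩ := c.fac g
    rw [hA, mem_bot] at ha
    subst ha
    simpa using hb
  apply c.not_solvable_of_eq_top hB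
  haveI := c.nilB
  infer_instance

theorem not_isPGroup_top (p : ℕ) [Fact p.Prime] : ¬ IsPGroup p G := by
  intro h
  apply c.nonsolv
  haveI := h.isNilpotent
  infer_instance

/-- a normal `p`-subgroup is trivial -/
theorem eq_bot_of_normalizer_eq_top {p : ℕ} [Fact p.Prime] {D : Subgroup G} (hD : IsPGroup p D)
    (hn : normalizer (D : Set G) = ⊤) : D = ⊥ := by
  haveI := c.simple
  haveI : D.Normal := normalizer_eq_top_iff.mp hn
  rcases Subgroup.Normal.eq_bot_or_eq_top (H := D) inferInstance with h | h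
  · exact h
  · exfalso
    apply c.not_isPGroup_top p
    have : IsPGroup p (⊤ : Subgroup G) := h ▸ hD
    exact this.of_equiv Subgroup.topEquiv

theorem exists_ZZ_ne_one : ∃ z ∈ ZZ A, z ≠ 1 := by
  haveI := c.nilA
  haveI : Nontrivial A := (Subgroup.nontrivial_iff_ne_bot A).mpr c.ne_bot
  have h := Group.IsNilpotent.center_ne_bot (G := A)
  obtain ⟨⟨z, hz⟩, hz1⟩ := (Subgroup.ne_bot_iff_exists_ne_one).mp h
  refine ⟨(z : G), mem_ZZ.mpr ⟨z.2, fun a ha => ?_⟩, ?_⟩
  · have := (Subgroup.mem_center_iff.mp hz) ⟨a, ha⟩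
    exact congrArg (fun x : A => (x : G)) this
  · intro h1
    apply hz1
    ext
    simpa using h1

theorem le_centralizer_of_mem_ZZ {z : G} (hz : z ∈ ZZ A) : A ≤ centralizer ({z} : Set G) := by
  intro a ha
  rw [mem_centralizer_iff]
  intro y hy
  rw [Set.mem_singleton_iff] at hy
  subst hy
  exact ((mem_ZZ.mp hz).2 a ha).symm

/-- Burnside: neither factor has prime power order -/
theorem sc_ne_bot (s : ℕ) [hs : Fact s.Prime] : sc B s ≠ ⊥ := by
  intro h
  haveI := c.simple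
  haveI := Fintype.ofFinite G
  obtain ⟨z, hz, hz1⟩ := c.exists_ZZ_ne_one
  have hAC : A ≤ centralizer ({z} : Set G) := c.le_centralizer_of_mem_ZZ hz
  have hcardB : Nat.card B = Nat.card (sp B s) := by
    have := (parts c.nilB s).2.2
    rw [h] at this
    simpa using this.symm
  obtain ⟨n, hn⟩ := IsPGroup.iff_card.mp (parts c.nilB s).1
  have hdvd : (centralizer ({z} : Set G)).index ∣ s ^ n := by
    rw [← hn, ← hcardB, ← c.index_A]
    exact Subgroup.index_dvd_of_le hAC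
  obtain ⟨k, _, hk⟩ := (Nat.dvd_prime_pow hs.out).mp hdvd
  have hpr := Cfsg.Agent.Lib.Helper3.prime_card_of_simple_of_class_prime_pow s k hs.out z hz1 hk
  haveI : Fact (Nat.card G).Prime := ⟨hpr⟩
  apply c.not_isPGroup_top (Nat.card G)
  exact IsPGroup.of_card (n := 1) (by simp)

theorem fact4 {A₁ L : Subgroup G} (h2 : A ≤ normalizer (A₁ : Set G)) (h3 : A₁ ≠ ⊥)
    (hB : B ≤ L) (hA₁ : A₁ ≤ L) : L = ⊤ := by
  haveI := c.simple
  have hn : normalClosure (A₁ : Set G) ≤ L := by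
    unfold normalClosure
    rw [closure_le]
    intro y hy
    obtain ⟨x, hx, hconj⟩ := Group.mem_conjugatesOfSet_iff.mp hy
    obtain ⟨g, hg⟩ := isConj_iff.mp hconj
    obtain ⟨b, hb, a, ha, rfl⟩ := c.fac' g
    rw [← hg]
    have e : b * a * x * (b * a)⁻¹ = b * (a * x * a⁻¹) * b⁻¹ := by group
    rw [e]
    exact L.mul_mem (L.mul_mem (hB hb) (hA₁ (conj_mem_of_mem_normalizer (h2 ha) hx)))
      (L.inv_mem (hB hb))
  rcases (normalClosure_normal (s := (A₁ : Set G))).eq_bot_or_eq_top with h | h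
  · exfalso
    apply h3
    rw [eq_bot_iff, ← h]
    exact le_normalClosure
  · rw [eq_top_iff, ← h]
    exact hn

theorem index_sc (r : ℕ) [Fact r.Prime] : (sc A r).index = Nat.card (sp A r) * Nat.card B := by
  have h1 := Subgroup.card_mul_index (sc A r)
  rw [← c.card_mul, ← (parts c.nilA r).2.2] at h1
  have h2 : Nat.card (sc A r) * (sc A r).index =
      Nat.card (sc A r) * (Nat.card (sp A r) * Nat.card B) := by
    rw [h1]; ring
  exact Nat.eq_of_mul_eq_mul_left Nat.card_pos h2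

theorem index_sp (r : ℕ) [Fact r.Prime] : (sp A r).index = Nat.card (sc A r) * Nat.card B := by
  have h1 := Subgroup.card_mul_index (sp A r)
  rw [← c.card_mul, ← (parts c.nilA r).2.2] at h1
  have h2 : Nat.card (sp A r) * (sp A r).index =
      Nat.card (sp A r) * (Nat.card (sc A r) * Nat.card B) := by
    rw [h1]; ring
  exact Nat.eq_of_mul_eq_mul_left Nat.card_pos h2

theorem card_sc_dvd (r : ℕ) [Fact r.Prime] : Nat.card (sc A r) ∣ Nat.card A :=
  Dvd.intro_left _ (parts c.nilA r).2.2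

theorem card_sp_dvd (r : ℕ) [Fact r.Prime] : Nat.card (sp A r) ∣ Nat.card A :=
  Dvd.intro _ (parts c.nilA r).2.2

theorem sc_hall (r : ℕ) [hr : Fact r.Prime] : (Nat.card (sc A r)).Coprime (sc A r).index := by
  rw [c.index_sc r]
  apply Nat.Coprime.mul_right
  · obtain ⟨n, hn⟩ := IsPGroup.iff_card.mp (parts c.nilA r).1
    rw [hn]
    exact Nat.Coprime.pow_right n (parts c.nilA r).2.1
  · exact Nat.Coprime.coprime_dvd_left (c.card_sc_dvd r) c.cop

theorem not_dvd_card_B {t : ℕ} (ht : t.Prime) (h : t ∣ Nat.card A) : ¬ t ∣ Nat.card B := by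
  intro h2
  have := Nat.dvd_gcd h h2
  rw [c.cop.gcd_eq_one] at this
  exact ht.one_lt.ne' (Nat.dvd_one.mp this)

theorem not_dvd_index_sp {t : ℕ} [ht : Fact t.Prime] (h : ¬ t ∣ Nat.card B) :
    ¬ t ∣ (sp A t).index := by
  rw [c.index_sp t]
  intro h2
  rcases (Nat.Prime.dvd_mul ht.out).mp h2 with h3 | h3
  · have := (parts c.nilA t).2.1
    exact (Nat.Prime.coprime_iff_not_dvd ht.out).mp this.symm h3
  · exact h h3

theorem le_sp_of_normalizes {t : ℕ} [ht : Fact t.Prime] (h : ¬ t ∣ Nat.card B) {D : Subgroup G}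
    (hD : IsPGroup t D) (hn : sp A t ≤ normalizer (D : Set G)) : D ≤ sp A t := by
  have hT : IsPGroup t (sp A t ⊔ D : Subgroup G) :=
    IsPGroup.to_sup_of_normal_right' (parts c.nilA t).1 hD hn
  have h1 : (sp A t).relIndex (sp A t ⊔ D) ∣ (sp A t).index :=
    Dvd.intro _ (relIndex_mul_index le_sup_left)
  have h2 : (sp A t).relIndex (sp A t ⊔ D) ∣ Nat.card (sp A t ⊔ D : Subgroup G) :=
    relIndex_dvd_card _ _
  obtain ⟨n, hn⟩ := IsPGroup.iff_card.mp hT
  rw [hn] at h2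
  obtain ⟨j, _, hj⟩ := (Nat.dvd_prime_pow ht.out).mp h2
  have h3 : (sp A t).relIndex (sp A t ⊔ D) = 1 := by
    rcases Nat.eq_zero_or_pos j with h0 | h0
    · rw [hj, h0, pow_zero]
    · exfalso
      apply c.not_dvd_index_sp h
      refine dvd_trans ?_ h1
      rw [hj]
      exact dvd_pow_self t h0.ne'
  exact le_sup_right.trans (relIndex_eq_one.mp h3)

theorem conj_into (K : Subgroup G)
    (hK : ∀ p : ℕ, p.Prime → p ∣ Nat.card K → p ∣ Nat.card B) :
    ∃ a ∈ A, ∀ k ∈ K, a⁻¹ * k * a ∈ B := by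
  have hHall : (Nat.card B).Coprime B.index := by
    rw [c.symm.index_A]
    exact c.cop.symm
  obtain ⟨y, hy⟩ := wielandt_aux (Nat.card K) B K c.nilB hHall hK rfl
  obtain ⟨a, ha, b, hb, h⟩ := c.fac y⁻¹
  refine ⟨a, ha, fun k hk => ?_⟩
  have e : a⁻¹ * k * a = b * (y * k * y⁻¹) * b⁻¹ := by
    have ha' : a = y⁻¹ * b⁻¹ := by rw [h]; group
    rw [ha']; group
  rw [e]
  exact B.mul_mem (B.mul_mem hb (hy k hk)) (B.inv_mem hb)

theorem conj_into_sp {t : ℕ} [ht : Fact t.Prime] (h : ¬ t ∣ Nat.card A) {D : Subgroup G}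
    (hD : IsPGroup t D) : ∃ a ∈ A, ∀ d ∈ D, a⁻¹ * d * a ∈ sp B t := by
  obtain ⟨n, hn⟩ := IsPGroup.iff_card.mp hD
  have hK : ∀ p : ℕ, p.Prime → p ∣ Nat.card D → p ∣ Nat.card B := by
    intro p hp hpd0
    have hpd := hpd0
    rw [hn] at hpd
    have hpt : p = t := (Nat.prime_dvd_prime_iff_eq hp ht.out).mp (hp.dvd_of_dvd_pow hpd)
    subst hpt
    have h1 : p ∣ Nat.card G := hpd0.trans (Subgroup.card_subgroup_dvd_card D)
    rw [← c.card_mul] at h1
    rcases (Nat.Prime.dvd_mul hp).mp h1 with h2 | h2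
    · exact absurd h2 h
    · exact h2
  obtain ⟨a, ha, hconj⟩ := c.conj_into D hK
  refine ⟨a, ha, fun d hd => ?_⟩
  obtain ⟨k, hk⟩ := hD ⟨d, hd⟩
  refine mem_sp_of (hconj d hd) k ?_
  have hk' : d ^ t ^ k = 1 := by
    have := congrArg (fun z : D => (z : G)) hk
    simpa using this
  have : a⁻¹ * d * a = a⁻¹ * d * a⁻¹⁻¹ := by rw [inv_inv]
  rw [this, conj_pow, hk']
  simp

end MC

end Cfsg.Agent.Lib.Helper96.KW
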