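import Mathlib
import Cfsg.Agent.Lib.Helper96.KW.Parts
import Cfsg.Agent.Lib.Helper9.HallFactor
import Cfsg.Agent.Lib.Helper24.SolvableMin
import Cfsg.Agent.Lib.Helper55.SolvCore
import Cfsg.Agent.Lib.Helper54.PConstr4

set_option autoImplicit false
set_option linter.style.haveILetI false
set_option linter.unusedSectionVars false

/-! Transport lemmas between a subgroup viewed as a group and the ambient group. -/

namespace Cfsg.Agent.Lib.Helper96.KW

open Subgroup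
open scoped Pointwise

variable {G : Type*} [Group G] [Finite G]

theorem permute_in_subgroup (L : Subgroup G) (hL : Group.IsSolvable L) (H K A₁ B₁ : Subgroup G)
    (hH : H ≤ L) (hK : K ≤ L) (hfac : ∀ l ∈ L, ∃ h ∈ H, ∃ k ∈ K, l = h * k)
    (hA₁ : A₁ ≤ H) (hA₁n : H ≤ normalizer (A₁ : Set G)) (hB₁ : B₁ ≤ K)
    (hB₁n : K ≤ normalizer (B₁ : Set G))
    (hallA : (Nat.card A₁).Coprime (A₁.relIndex L))
    (hallB : (Nat.card B₁).Coprime (B₁.relIndex L)) :
    ∃ S : Subgroup G, (S : Set G) = (A₁ : Set G) * (B₁ : Set G) := by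
  haveI := hL
  have hcA : Nat.card (A₁.subgroupOf L) = Nat.card A₁ :=
    Nat.card_congr (subgroupOfEquivOfLe (hA₁.trans hH)).toEquiv
  have hcB : Nat.card (B₁.subgroupOf L) = Nat.card B₁ :=
    Nat.card_congr (subgroupOfEquivOfLe (hB₁.trans hK)).toEquiv
  have hnorm : ∀ (X X₁ : Subgroup G), X ≤ normalizer (X₁ : Set G) →
      ((X₁.subgroupOf L).subgroupOf (X.subgroupOf L)).Normal := by
    intro X X₁ hX
    refine ⟨fun n hn g => ?_⟩
    rw [mem_subgroupOf, mem_subgroupOf] at hn ⊢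
    have hg : ((g : L) : G) ∈ X := mem_subgroupOf.mp g.2
    have := conj_mem_of_mem_normalizer (hX hg) hn
    simpa using this
  obtain ⟨S, hS⟩ := Cfsg.Agent.Lib.Helper9.hall_factor_permute (G := L)
    (H.subgroupOf L) (K.subgroupOf L) (A₁.subgroupOf L) (B₁.subgroupOf L)
    (by
      intro g
      obtain ⟨h, hh, k, hk, e⟩ := hfac g g.2
      refine ⟨⟨h, hH hh⟩, mem_subgroupOf.mpr hh, ⟨k, hK hk⟩, mem_subgroupOf.mpr hk, ?_⟩
      ext
      simpa using e)
    (by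
      intro x hx
      rw [mem_subgroupOf] at hx ⊢
      exact hA₁ hx)
    (hnorm H A₁ hA₁n)
    (by
      intro x hx
      rw [mem_subgroupOf] at hx ⊢
      exact hB₁ hx)
    (hnorm K B₁ hB₁n)
    (by rw [hcA]; exact hallA)
    (by rw [hcB]; exact hallB) 1 1
  rw [map_one, one_smul, one_smul] at hS
  refine ⟨S.map L.subtype, ?_⟩
  rw [coe_map, hS, Set.image_mul, ← coe_map, ← coe_map,
    map_subgroupOf_eq_of_le (hA₁.trans hH), map_subgroupOf_eq_of_le (hB₁.trans hK)]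

theorem le_normalizer_map_subtype (J : Subgroup G) (W : Subgroup J) [hW : W.Normal] :
    J ≤ normalizer ((W.map J.subtype : Subgroup G) : Set G) := by
  intro j hj
  apply Subgroup.mem_normalizer_fintype
  rintro x ⟨d, hd, rfl⟩
  refine ⟨⟨j, hj⟩ * d * ⟨j, hj⟩⁻¹, hW.conj_mem d hd ⟨j, hj⟩, ?_⟩
  simp

/-- a nontrivial solvable subgroup has a nontrivial normal `p`-subgroup -/
theorem exists_normal_pSubgroup_in (J : Subgroup G) (hJ : Group.IsSolvable J) (hne : J ≠ ⊥) :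
    ∃ (t : ℕ) (_ : t.Prime) (D : Subgroup G), D ≤ J ∧ J ≤ normalizer (D : Set G) ∧ D ≠ ⊥ ∧
      IsPGroup t D := by
  haveI := hJ
  haveI : Nontrivial J := (Subgroup.nontrivial_iff_ne_bot J).mpr hne
  obtain ⟨t, ht, D, hDn, hDne, hDp⟩ :=
    Cfsg.Agent.Lib.Helper24.exists_normal_pSubgroup_of_solvable J
  refine ⟨t, ht, D.map J.subtype, map_subtype_le D, ?_, ?_, hDp.map _⟩
  · intro j hj
    apply Subgroup.mem_normalizer_fintype
    rintro x ⟨d, hd, rfl⟩
    refine ⟨⟨j, hj⟩ * d * ⟨j, hj⟩⁻¹, hDn.conj_mem d hd ⟨j, hj⟩, ?_⟩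
    simp
  · intro h
    apply hDne
    rw [eq_bot_iff] at h ⊢
    intro d hd
    have : (d : G) ∈ (⊥ : Subgroup G) := h ⟨d, hd, rfl⟩
    rw [mem_bot] at this ⊢
    ext
    simpa using this

theorem isPGroup_zpowers_of_pow_eq_one {H : Type*} [Group H] {p : ℕ} [hp : Fact p.Prime] {x : H}
    {k : ℕ} (hk : x ^ p ^ k = 1) : IsPGroup p (Subgroup.zpowers x) := by
  have h1 : orderOf x ∣ p ^ k := orderOf_dvd_of_pow_eq_one hk
  obtain ⟨j, _, hj⟩ := (Nat.dvd_prime_pow hp.out).mp h1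
  apply IsPGroup.of_card (n := j)
  rw [Nat.card_zpowers, hj]

/-- two `p`-elements of a subgroup `C` can be put in a common `p`-subgroup after conjugating one
of them by an element of `C` -/
theorem exists_conj_in_pgroup {p : ℕ} [hp : Fact p.Prime] (C : Subgroup G) {z₁ z₂ : G}
    (h1 : z₁ ∈ C) (h2 : z₂ ∈ C) (hz₁ : ∃ k : ℕ, z₁ ^ p ^ k = 1) (hz₂ : ∃ k : ℕ, z₂ ^ p ^ k = 1) :
    ∃ c₀ ∈ C, ∃ T : Subgroup G, IsPGroup p T ∧ z₁ ∈ T ∧ c₀ * z₂ * c₀⁻¹ ∈ T := by
  obtain ⟨k₁, hk₁⟩ := hz₁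
  obtain ⟨k₂, hk₂⟩ := hz₂
  have hZ₁ : IsPGroup p (Subgroup.zpowers (⟨z₁, h1⟩ : C)) :=
    isPGroup_zpowers_of_pow_eq_one (k := k₁) (by ext; simpa using hk₁)
  have hZ₂ : IsPGroup p (Subgroup.zpowers (⟨z₂, h2⟩ : C)) :=
    isPGroup_zpowers_of_pow_eq_one (k := k₂) (by ext; simpa using hk₂)
  obtain ⟨P₁, hP₁⟩ := hZ₁.exists_le_sylow
  obtain ⟨P₂, hP₂⟩ := hZ₂.exists_le_sylow
  obtain ⟨c₀, hc₀⟩ := MulAction.exists_smul_eq C P₂ P₁
  refine ⟨(c₀ : G), c₀.2, (P₁ : Subgroup C).map C.subtype, P₁.2.map _, ?_, ?_⟩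
  · exact ⟨⟨z₁, h1⟩, hP₁ (Subgroup.mem_zpowers _), rfl⟩
  · have hmem : (MulAut.conj c₀ • (⟨z₂, h2⟩ : C)) ∈ (MulAut.conj c₀ • (P₂ : Subgroup C)) :=
      Subgroup.smul_mem_pointwise_smul _ _ _ (hP₂ (Subgroup.mem_zpowers _))
    rw [← Sylow.coe_subgroup_smul, hc₀] at hmem
    refine ⟨_, hmem, ?_⟩
    simp [MulAut.smul_def]

/-- Hall–Higman 1.2.3 inside a solvable subgroup -/
theorem hh_sub (J : Subgroup G) (hJ : Group.IsSolvable J) (r : ℕ) [hr : Fact r.Prime]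
    (hno : ∀ (t : ℕ), t.Prime → t ≠ r → ∀ D : Subgroup G, D ≤ J → J ≤ normalizer (D : Set G) →
      IsPGroup t D → D = ⊥) :
    ∃ R : Subgroup G, R ≤ J ∧ J ≤ normalizer (R : Set G) ∧ IsPGroup r R ∧
      ∀ x ∈ J, (∀ y ∈ R, x * y = y * x) → x ∈ R := by
  haveI := hJ
  have hcore : Cfsg.pPrimeCore r J = ⊥ := by
    unfold Cfsg.pPrimeCore
    rw [sSup_eq_bot]
    rintro N ⟨hNn, hNc⟩
    by_contra hne
    haveI := hNn
    haveI : Nontrivial N := (Subgroup.nontrivial_iff_ne_bot N).mpr hne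
    obtain ⟨t, ht, D, hDn, hDne, hDp⟩ :=
      Cfsg.Agent.Lib.Helper24.exists_normal_pSubgroup_of_solvable N
    haveI := Fact.mk ht
    haveI := hDn
    have hW1 : D ≤ Cfsg.pCore t N := Cfsg.Agent.Lib.Helper55.le_pCore t D hDp
    haveI : (Cfsg.pCore t N).Characteristic := Cfsg.Agent.Lib.Helper54.pCore_characteristic' t N
    haveI : ((Cfsg.pCore t N).map N.subtype).Normal := ConjAct.normal_of_characteristic_of_normal
    have hWp : IsPGroup t ((Cfsg.pCore t N).map N.subtype) :=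
      (Cfsg.Agent.Lib.Helper55.pCore_isPGroup t).map _
    have htr : t ≠ r := by
      intro h
      subst h
      have h1 : t ∣ Nat.card D := by
        obtain ⟨n, hn⟩ := IsPGroup.iff_card.mp hDp
        rcases Nat.eq_zero_or_pos n with h0 | h0
        · exfalso
          apply hDne
          rw [h0, pow_zero] at hn
          exact (Subgroup.card_eq_one).mp hn
        · rw [hn]; exact dvd_pow_self t h0.ne'
      have h2 : t ∣ Nat.card N := h1.trans (Subgroup.card_subgroup_dvd_card D)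
      exact (Nat.Prime.coprime_iff_not_dvd ht).mp hNc.symm h2
    have h0 := hno t ht htr _ (map_subtype_le _)
      (le_normalizer_map_subtype J ((Cfsg.pCore t N).map N.subtype)) (hWp.map _)
    rw [Subgroup.map_eq_bot_iff_of_injective _ J.subtype_injective,
      Subgroup.map_eq_bot_iff_of_injective _ N.subtype_injective] at h0
    apply hDne
    rw [eq_bot_iff, ← h0]
    exact hW1
  have hcent := Cfsg.Agent.Lib.Helper55.centralizer_pCore_le (G := J) r hcore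
  haveI : (Cfsg.pCore r J).Normal := Cfsg.Agent.Lib.Helper55.pCore_normal' r
  refine ⟨(Cfsg.pCore r J).map J.subtype, map_subtype_le _, le_normalizer_map_subtype J _,
    (Cfsg.Agent.Lib.Helper55.pCore_isPGroup r).map _, ?_⟩
  intro x hx hcomm
  refine ⟨⟨x, hx⟩, hcent ?_, rfl⟩
  rw [mem_centralizer_iff]
  intro y hy
  have := hcomm (y : G) ⟨y, hy, rfl⟩
  ext
  simpa using this.symm

end Cfsg.Agent.Lib.Helper96.KW
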