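import Mathlib
import Cfsg.Agent.Lib.Helper96.KW.Config
import Cfsg.Agent.Lib.Helper96.KW.Transport
import Cfsg.Agent.Lib.Helper24.FactorSylow

set_option autoImplicit false
set_option linter.style.haveILetI false
set_option linter.unusedSectionVars false

/-! Generation statements in the minimal counterexample. -/

namespace Cfsg.Agent.Lib.Helper96.KW

open Subgroup
open scoped Pointwise

variable {G : Type*} [Group G] [Finite G]

namespace MC

variable {A B : Subgroup G} (c : MC A B)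
include c

theorem fac_normalizer_join {A₁ B₁ : Subgroup G} (hA₁ : A₁ ≤ A)
    (hA₁n : A ≤ normalizer (A₁ : Set G)) (hB₁ : B₁ ≤ B) (hB₁n : B ≤ normalizer (B₁ : Set G)) :
    ∀ l ∈ normalizer ((A₁ ⊔ B₁ : Subgroup G) : Set G),
      ∃ a ∈ A ⊓ normalizer ((A₁ ⊔ B₁ : Subgroup G) : Set G),
      ∃ b ∈ B ⊓ normalizer ((A₁ ⊔ B₁ : Subgroup G) : Set G), l = a * b := by
  intro l hl
  obtain ⟨h, hh, k, hk, e⟩ := Cfsg.Agent.S0562.result A B A₁ B₁ c.fac hA₁
    ((normal_subgroupOf_iff_le_normalizer hA₁).mpr hA₁n) hB₁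
    ((normal_subgroupOf_iff_le_normalizer hB₁).mpr hB₁n) l hl
  exact ⟨h, ⟨hh.2, hh.1⟩, k, ⟨hk.2, hk.1⟩, e⟩

theorem solvable_normalizer_join {A₁ B₁ : Subgroup G} (hA₁ : A₁ ≤ A)
    (hA₁n : A ≤ normalizer (A₁ : Set G)) (hB₁ : B₁ ≤ B) (hB₁n : B ≤ normalizer (B₁ : Set G))
    (hne : A₁ ⊔ B₁ ≠ ⊥) (htop : A₁ ⊔ B₁ ≠ ⊤) :
    Group.IsSolvable (normalizer ((A₁ ⊔ B₁ : Subgroup G) : Set G)) := by
  apply c.ih _ ?_ (c.fac_normalizer_join hA₁ hA₁n hB₁ hB₁n)
  intro h
  haveI := c.simple
  haveI : (A₁ ⊔ B₁).Normal := normalizer_eq_top_iff.mp h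
  rcases (inferInstance : (A₁ ⊔ B₁).Normal).eq_bot_or_eq_top with h1 | h1
  exacts [hne h1, htop h1]

theorem solvable_join {A₁ B₁ : Subgroup G} (hA₁ : A₁ ≤ A)
    (hA₁n : A ≤ normalizer (A₁ : Set G)) (hB₁ : B₁ ≤ B) (hB₁n : B ≤ normalizer (B₁ : Set G))
    (hne : A₁ ⊔ B₁ ≠ ⊥) (htop : A₁ ⊔ B₁ ≠ ⊤) :
    Group.IsSolvable (A₁ ⊔ B₁ : Subgroup G) := by
  haveI := c.solvable_normalizer_join hA₁ hA₁n hB₁ hB₁n hne htop
  exact Group.isSolvable_of_isSolvable_injective
    (Subgroup.inclusion_injective (le_normalizer (H := A₁ ⊔ B₁)))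

theorem key_b {t : ℕ} [ht : Fact t.Prime] (htB : ¬ t ∣ Nat.card B) {J D B₁ : Subgroup G}
    (hD : IsPGroup t D) (hDJ : J ≤ normalizer (D : Set G)) (hsp : sp A t ≤ J)
    (hB₁J : B₁ ≤ J) (hB₁n : B ≤ normalizer (B₁ : Set G)) (hB₁ne : B₁ ≠ ⊥) : D = ⊥ := by
  have h1 : D ≤ sp A t := c.le_sp_of_normalizes htB hD (hsp.trans hDJ)
  have hA : A ≤ normalizer (D : Set G) := by
    intro a ha
    obtain ⟨x, hx, y, hy, rfl⟩ := exists_mul_sp_sc (p := t) ha
    apply mul_mem (hDJ (hsp hx))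
    apply mem_normalizer_of_commute
    intro d hd
    exact commute_sp_sc c.nilA (h1 hd) hy
  have := c.symm.fact4 (A₁ := B₁) hB₁n hB₁ne hA (hB₁J.trans hDJ)
  exact c.eq_bot_of_normalizer_eq_top hD this

theorem thmB (r s : ℕ) [hr : Fact r.Prime] [hs : Fact s.Prime] : sc A r ⊔ sc B s = ⊤ := by
  by_contra htop
  have hneA := c.symm.sc_ne_bot r
  have hneB := c.sc_ne_bot s
  have hne : sc A r ⊔ sc B s ≠ ⊥ := fun h => hneA (eq_bot_iff.mpr (h ▸ le_sup_left))
  have hsolvN : Group.IsSolvable (normalizer ((sc A r ⊔ sc B s : Subgroup G) : Set G)) :=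
    c.solvable_normalizer_join (sc_le A r) (le_normalizer_sc A r) (sc_le B s)
      (le_normalizer_sc B s) hne htop
  have hfacN := c.fac_normalizer_join (sc_le A r) (le_normalizer_sc A r) (sc_le B s)
    (le_normalizer_sc B s)
  have hsolvJ := c.solvable_join (sc_le A r) (le_normalizer_sc A r) (sc_le B s)
      (le_normalizer_sc B s) hne htop
  have hJN : sc A r ⊔ sc B s ≤ normalizer ((sc A r ⊔ sc B s : Subgroup G) : Set G) :=
    le_normalizer
  obtain ⟨S, hS⟩ := permute_in_subgroup _ hsolvN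
    (A ⊓ normalizer ((sc A r ⊔ sc B s : Subgroup G) : Set G))
    (B ⊓ normalizer ((sc A r ⊔ sc B s : Subgroup G) : Set G)) (sc A r) (sc B s)
    inf_le_right inf_le_right hfacN
    (le_inf (sc_le A r) (le_sup_left.trans hJN)) (inf_le_left.trans (le_normalizer_sc A r))
    (le_inf (sc_le B s) (le_sup_right.trans hJN)) (inf_le_left.trans (le_normalizer_sc B s))
    (Nat.Coprime.coprime_dvd_right (Dvd.intro _ (relIndex_mul_index (le_sup_left.trans hJN)))
      (c.sc_hall r))
    (Nat.Coprime.coprime_dvd_right (Dvd.intro _ (relIndex_mul_index (le_sup_right.trans hJN)))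
      (c.symm.sc_hall s))
  have hSJ : S = sc A r ⊔ sc B s := by
    apply le_antisymm
    · intro x hx
      have hx' : x ∈ (S : Set G) := hx
      rw [hS] at hx'
      obtain ⟨a, ha, b, hb, rfl⟩ := Set.mem_mul.mp hx'
      exact mul_mem (le_sup_left (a := sc A r) ha) (le_sup_right (b := sc B s) hb)
    · apply sup_le
      · intro a ha
        have : a ∈ (S : Set G) := by
          rw [hS]; exact Set.mem_mul.mpr ⟨a, ha, 1, one_mem _, mul_one a⟩
        exact this
      · intro b hb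
        have : b ∈ (S : Set G) := by
          rw [hS]; exact Set.mem_mul.mpr ⟨1, one_mem _, b, hb, one_mul b⟩
        exact this
  have hcardJ : Nat.card (sc A r ⊔ sc B s : Subgroup G) ∣
      Nat.card (sc A r) * Nat.card (sc B s) := by
    rw [← hSJ]
    have h1 := Cfsg.Agent.Lib.Helper24.card_mul_set_mul_card_inf (sc A r) (sc B s)
    have e : Nat.card S = Nat.card ((sc A r : Set G) * (sc B s : Set G) : Set G) := by
      rw [← hS]; rfl
    rw [e]
    exact Dvd.intro _ h1
  obtain ⟨t, ht, D, hDJ, hJD, hDne, hDp⟩ := exists_normal_pSubgroup_in _ hsolvJ hne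
  haveI := Fact.mk ht
  have htJ : t ∣ Nat.card (sc A r ⊔ sc B s : Subgroup G) :=
    (dvd_card_of_ne_bot hDp hDne).trans (Subgroup.card_dvd_of_le hDJ)
  apply hDne
  rcases (Nat.Prime.dvd_mul ht).mp (htJ.trans hcardJ) with h | h
  · have htr : t ≠ r := by
      intro e
      subst e
      exact (Nat.Prime.coprime_iff_not_dvd ht).mp (parts c.nilA t).2.1.symm h
    have htA : t ∣ Nat.card A := h.trans (c.card_sc_dvd r)
    exact c.key_b (c.not_dvd_card_B ht htA) hDp hJD
      ((sp_le_sc A ht hr.out htr).trans le_sup_left) le_sup_right (le_normalizer_sc B s) hneB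
  · have hts : t ≠ s := by
      intro e
      subst e
      exact (Nat.Prime.coprime_iff_not_dvd ht).mp (parts c.nilB t).2.1.symm h
    have htB : t ∣ Nat.card B := h.trans (c.symm.card_sc_dvd s)
    exact c.symm.key_b (c.symm.not_dvd_card_B ht htB) hDp hJD
      ((sp_le_sc B ht hs.out hts).trans le_sup_right) le_sup_left (le_normalizer_sc A r) hneA

theorem zpowers_le_of_mem_ZZ {w : G} (hw : w ∈ ZZ B) : zpowers w ≤ B :=
  zpowers_le.mpr (mem_ZZ.mp hw).1

theorem le_normalizer_zpowers_of_mem_ZZ {w : G} (hw : w ∈ ZZ B) :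
    B ≤ normalizer ((zpowers w : Subgroup G) : Set G) := by
  intro b hb
  apply mem_normalizer_of_commute
  intro d hd
  obtain ⟨k, rfl⟩ := mem_zpowers_iff.mp hd
  have h1 : Commute b w := (mem_ZZ.mp hw).2 b hb
  exact (h1.zpow_right k).symm.eq

theorem stage2 (r : ℕ) [hr : Fact r.Prime] (hrA : r ∣ Nat.card A) {w : G} (hw : w ∈ ZZ B)
    (hw1 : w ≠ 1) : sc A r ⊔ zpowers w = ⊤ := by
  by_contra htop
  have hneA := c.symm.sc_ne_bot r
  have hzB := c.zpowers_le_of_mem_ZZ hw
  have hzn := c.le_normalizer_zpowers_of_mem_ZZ hw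
  have hzne : zpowers w ≠ ⊥ := by rwa [Ne, zpowers_eq_bot]
  have hne : sc A r ⊔ zpowers w ≠ ⊥ := fun h => hneA (eq_bot_iff.mpr (h ▸ le_sup_left))
  have hsolvJ := c.solvable_join (sc_le A r) (le_normalizer_sc A r) hzB hzn hne htop
  have hno : ∀ (t : ℕ), t.Prime → t ≠ r → ∀ D : Subgroup G, D ≤ sc A r ⊔ zpowers w →
      sc A r ⊔ zpowers w ≤ normalizer (D : Set G) → IsPGroup t D → D = ⊥ := by
    intro t ht htr D _ hJD hDp
    haveI := Fact.mk ht
    by_cases htA : t ∣ Nat.card A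
    · exact c.key_b (c.not_dvd_card_B ht htA) hDp hJD
        ((sp_le_sc A ht hr.out htr).trans le_sup_left) le_sup_right hzn hzne
    · obtain ⟨a, ha, hconj⟩ := c.conj_into_sp htA hDp
      apply c.eq_bot_of_normalizer_eq_top hDp
      apply eq_top_of_comap_conj (a := a)
      rw [eq_top_iff, ← c.thmB r t]
      apply sup_le
      · intro x hx
        rw [mem_comap_conj]
        exact hJD (le_sup_left (a := sc A r)
          (conj_mem_of_mem_normalizer (le_normalizer_sc A r ha) hx))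
      · intro y hy
        rw [mem_comap_conj]
        apply conj_mem_normalizer_of_commute
        intro d hd
        exact commute_sp_sc c.nilB (hconj d hd) hy
  obtain ⟨R, _, hJR, hRp, hRc⟩ := hh_sub _ hsolvJ r hno
  have hT : ∀ p : ℕ, p.Prime → p ∣ Nat.card (sc A r ⊔ R : Subgroup G) → p ∣ Nat.card A := by
    intro p hp hpd
    have h1 := Cfsg.Agent.Lib.Helper55.card_sup_dvd_mul_of_le_normalizer (sc A r) R
      (le_sup_left.trans hJR)
    rcases (Nat.Prime.dvd_mul hp).mp (hpd.trans h1) with h | h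
    · exact h.trans (c.card_sc_dvd r)
    · obtain ⟨n, hn⟩ := IsPGroup.iff_card.mp hRp
      rw [hn] at h
      have := (Nat.prime_dvd_prime_iff_eq hp hr.out).mp (hp.dvd_of_dvd_pow h)
      subst this
      exact hrA
  obtain ⟨b, _, hconj⟩ := c.symm.conj_into (sc A r ⊔ R) hT
  have hcomm : ∀ x ∈ sc A r, ∀ y ∈ R, x * y = y * x := by
    intro x hx y hy
    have hx' := hconj x (le_sup_left (a := sc A r) hx)
    have hy' := hconj y (le_sup_right (b := R) hy)
    have hcop : (orderOf (b⁻¹ * x * b)).Coprime (orderOf (b⁻¹ * y * b)) := by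
      rw [orderOf_conj'', orderOf_conj'']
      obtain ⟨k, hk⟩ := hRp ⟨y, hy⟩
      have hk' : y ^ r ^ k = 1 := by
        have := congrArg (fun z : R => (z : G)) hk
        simpa using this
      have h2 : orderOf y ∣ r ^ k := orderOf_dvd_of_pow_eq_one hk'
      exact Nat.Coprime.coprime_dvd_right h2
        (Nat.Coprime.pow_right k (coprime_of_mem_sc c.nilA hx))
    have h := commute_of_mem_of_coprime c.nilA hx' hy' hcop
    have e1 : b⁻¹ * x * b * (b⁻¹ * y * b) = b⁻¹ * (x * y) * b := by group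
    have e2 : b⁻¹ * y * b * (b⁻¹ * x * b) = b⁻¹ * (y * x) * b := by group
    rw [e1, e2] at h
    exact mul_left_cancel (mul_right_cancel h)
  have hle : sc A r ≤ R := fun x hx => hRc x (le_sup_left (a := sc A r) hx) (hcomm x hx)
  apply hneA
  rw [eq_bot_iff]
  intro x hx
  have h1 : (orderOf x).Coprime r := coprime_of_mem_sc c.nilA hx
  obtain ⟨k, hk⟩ := hRp ⟨x, hle hx⟩
  have hk' : x ^ r ^ k = 1 := by
    have := congrArg (fun z : R => (z : G)) hk
    simpa using this
  have h2 : orderOf x ∣ r ^ k := orderOf_dvd_of_pow_eq_one hk'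
  have h3 : orderOf x = 1 := (Nat.Coprime.pow_right k h1).eq_one_of_dvd h2
  exact mem_bot.mpr (orderOf_eq_one_iff.mp h3)

theorem gen_zw_aux {t : ℕ} [ht : Fact t.Prime] (htA : t ∣ Nat.card A) {w : G} (hw : w ∈ ZZ B)
    (hw1 : w ≠ 1) {D : Subgroup G} (hDp : IsPGroup t D) (hwD : w ∈ normalizer (D : Set G)) :
    D = ⊥ := by
  obtain ⟨b, hb, hconj⟩ := c.symm.conj_into_sp (c.not_dvd_card_B ht.out htA) hDp
  apply c.eq_bot_of_normalizer_eq_top hDp
  apply eq_top_of_comap_conj (a := b)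
  rw [eq_top_iff, ← c.stage2 t htA hw hw1]
  apply sup_le
  · intro y hy
    rw [mem_comap_conj]
    apply conj_mem_normalizer_of_commute
    intro d hd
    exact commute_sp_sc c.nilA (hconj d hd) hy
  · rw [zpowers_le, mem_comap_conj]
    have h1 : b * w = w * b := (mem_ZZ.mp hw).2 b hb
    have e : b * w * b⁻¹ = w := by rw [h1]; group
    rw [e]
    exact hwD

theorem dvd_card_B_of_not_dvd {t : ℕ} (ht : t.Prime) {D : Subgroup G} (hD : t ∣ Nat.card D)
    (htA : ¬ t ∣ Nat.card A) : t ∣ Nat.card B := by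
  have h1 : t ∣ Nat.card G := hD.trans (Subgroup.card_subgroup_dvd_card D)
  rw [← c.card_mul] at h1
  rcases (Nat.Prime.dvd_mul ht).mp h1 with h2 | h2
  · exact absurd h2 htA
  · exact h2

theorem gen_zw {z w : G} (hz : z ∈ ZZ A) (hz1 : z ≠ 1) (hw : w ∈ ZZ B) (hw1 : w ≠ 1) :
    zpowers z ⊔ zpowers w = ⊤ := by
  by_contra htop
  have hzne : zpowers z ≠ ⊥ := by rwa [Ne, zpowers_eq_bot]
  have hne : zpowers z ⊔ zpowers w ≠ ⊥ := fun h => hzne (eq_bot_iff.mpr (h ▸ le_sup_left))
  have hsolvJ := c.solvable_join (c.symm.zpowers_le_of_mem_ZZ hz)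
    (c.symm.le_normalizer_zpowers_of_mem_ZZ hz) (c.zpowers_le_of_mem_ZZ hw)
    (c.le_normalizer_zpowers_of_mem_ZZ hw) hne htop
  obtain ⟨t, ht, D, _, hJD, hDne, hDp⟩ := exists_normal_pSubgroup_in _ hsolvJ hne
  haveI := Fact.mk ht
  apply hDne
  by_cases htA : t ∣ Nat.card A
  · exact c.gen_zw_aux htA hw hw1 hDp
      (hJD (le_sup_right (b := zpowers w) (mem_zpowers w)))
  · have htB := c.dvd_card_B_of_not_dvd ht (dvd_card_of_ne_bot hDp hDne) htA
    exact c.symm.gen_zw_aux htB hz hz1 hDp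
      (hJD (le_sup_left (a := zpowers z) (mem_zpowers z)))

theorem center_eq_bot : center G = ⊥ := by
  haveI := c.simple
  rcases (inferInstance : (center G).Normal).eq_bot_or_eq_top with h | h
  · exact h
  · exfalso
    apply c.nonsolv
    exact isSolvable_of_comm (fun a b => by
      have : a ∈ center G := h ▸ mem_top a
      exact ((mem_center_iff.mp this) b).symm)

theorem centralizer_ZZ {z : G} (hz : z ∈ ZZ A) (hz1 : z ≠ 1) :
    centralizer ({z} : Set G) = A := by
  obtain ⟨w, hw, hw1⟩ := c.symm.exists_ZZ_ne_one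
  apply le_antisymm _ (c.le_centralizer_of_mem_ZZ hz)
  intro x hx
  obtain ⟨a, ha, b, hb, rfl⟩ := c.fac x
  have hbz : b ∈ centralizer ({z} : Set G) := by
    have : b = a⁻¹ * (a * b) := by group
    rw [this]
    exact mul_mem (inv_mem (c.le_centralizer_of_mem_ZZ hz ha)) hx
  have hbw : b ∈ centralizer ({w} : Set G) := c.symm.le_centralizer_of_mem_ZZ hw hb
  have hb1 : b ∈ center G := by
    have hle : zpowers z ⊔ zpowers w ≤ centralizer ({b} : Set G) := by
      apply sup_le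
      · rw [zpowers_le, mem_centralizer_iff]
        intro y hy
        rw [Set.mem_singleton_iff] at hy
        subst hy
        exact ((mem_centralizer_iff.mp hbz) z rfl).symm
      · rw [zpowers_le, mem_centralizer_iff]
        intro y hy
        rw [Set.mem_singleton_iff] at hy
        subst hy
        exact ((mem_centralizer_iff.mp hbw) w rfl).symm
    rw [c.gen_zw hz hz1 hw hw1] at hle
    rw [mem_center_iff]
    intro g
    exact ((mem_centralizer_iff.mp (hle (mem_top g))) b rfl).symm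
  rw [c.center_eq_bot, mem_bot] at hb1
  subst hb1
  simpa using ha

end MC

end Cfsg.Agent.Lib.Helper96.KW
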