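import Mathlib
import Cfsg.Agent.Lib.Helper96.KW.Stages
import Cfsg.Agent.Lib.Helper32.PGroupCenter

set_option autoImplicit false
set_option linter.style.haveILetI false
set_option linter.unusedSectionVars false

/-! Local analysis in the minimal counterexample. -/

namespace Cfsg.Agent.Lib.Helper96.KW

open Subgroup
open scoped Pointwise

variable {G : Type*} [Group G] [Finite G]

/-- a nontrivial normal subgroup of a nilpotent group contains a central element of prime order -/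
theorem exists_ZZ_prime_in {A K : Subgroup G} (hA : Group.IsNilpotent A) (hK : K ≤ A)
    (hKn : A ≤ normalizer (K : Set G)) (hne : K ≠ ⊥) :
    ∃ z ∈ K, z ∈ ZZ A ∧ (orderOf z).Prime := by
  have hcard : Nat.card K ≠ 1 := fun h => hne ((Subgroup.card_eq_one).mp h)
  obtain ⟨p, hp, hpd⟩ := Nat.exists_prime_and_dvd hcard
  haveI := Fact.mk hp
  obtain ⟨x, hx⟩ := exists_prime_orderOf_dvd_card' (G := K) p hpd
  have hxG : orderOf (x : G) = p := by rw [Subgroup.orderOf_coe]; exact hx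
  have hxsp : (x : G) ∈ sp A p := mem_sp_of (hK x.2) 1 (by rw [pow_one, ← hxG, pow_orderOf_eq_one])
  have hQ : IsPGroup p (sp A p) := (parts hA p).1
  have hNn : ((K ⊓ sp A p).subgroupOf (sp A p)).Normal := by
    refine ⟨fun n hn g => ?_⟩
    rw [mem_subgroupOf] at hn ⊢
    have hgA : (g : G) ∈ A := sp_le A p g.2
    have h1 := conj_mem_of_mem_normalizer (hKn hgA) hn.1
    have h2 := conj_mem_of_mem_normalizer (le_normalizer_sp A p hgA) hn.2
    exact ⟨by simpa using h1, by simpa using h2⟩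
  have hNne : (K ⊓ sp A p).subgroupOf (sp A p) ≠ ⊥ := by
    intro h
    have h1 : (⟨(x : G), hxsp⟩ : sp A p) ∈ (K ⊓ sp A p).subgroupOf (sp A p) :=
      mem_subgroupOf.mpr ⟨x.2, hxsp⟩
    rw [h, mem_bot] at h1
    have h2 : (x : G) = 1 := congrArg Subtype.val h1
    rw [h2, orderOf_one] at hxG
    exact hp.one_lt.ne hxG
  obtain ⟨y, hyN, hyc, hy1⟩ :=
    Cfsg.Agent.Lib.Helper32.exists_ne_one_mem_normal_inf_center hQ _ hNne
  -- the subgroup `N ⊓ center` is a nontrivial `p`-group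
  set M : Subgroup (sp A p) := (K ⊓ sp A p).subgroupOf (sp A p) ⊓ center (sp A p) with hM
  have hMne : M ≠ ⊥ := by
    intro h
    have : y ∈ M := ⟨hyN, hyc⟩
    rw [h, mem_bot] at this
    exact hy1 this
  have hMp : IsPGroup p M := hQ.to_subgroup M
  have hpM : p ∣ Nat.card M := dvd_card_of_ne_bot hMp hMne
  obtain ⟨w, hw⟩ := exists_prime_orderOf_dvd_card' (G := M) p hpM
  have hwN : ((w : sp A p) : G) ∈ K := (mem_subgroupOf.mp w.2.1).1
  have hwc : (w : sp A p) ∈ center (sp A p) := w.2.2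
  refine ⟨((w : sp A p) : G), hwN, mem_ZZ.mpr ⟨hK hwN, ?_⟩, ?_⟩
  · intro a ha
    obtain ⟨u, hu, v, hv, rfl⟩ := exists_mul_sp_sc (p := p) ha
    have h1 : u * ((w : sp A p) : G) = ((w : sp A p) : G) * u := by
      have := (mem_center_iff.mp hwc) ⟨u, hu⟩
      exact congrArg (fun t : sp A p => (t : G)) this
    have h2 : ((w : sp A p) : G) * v = v * ((w : sp A p) : G) :=
      commute_sp_sc hA (w : sp A p).2 hv
    rw [mul_assoc, ← h2, ← mul_assoc, h1, mul_assoc]
  · rw [Subgroup.orderOf_coe, Subgroup.orderOf_coe, hw]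
    exact hp

namespace MC

variable {A B : Subgroup G} (c : MC A B)
include c

theorem mem_centralizer_singleton {x y : G} : x ∈ centralizer ({y} : Set G) ↔ y * x = x * y := by
  rw [mem_centralizer_iff]
  constructor
  · intro h; exact h y rfl
  · intro h z hz
    rw [Set.mem_singleton_iff] at hz
    subst hz
    exact h

theorem mem_A_of_commute {z : G} (hz : z ∈ ZZ A) (hz1 : z ≠ 1) {x : G} (h : z * x = x * z) :
    x ∈ A := by
  rw [← c.centralizer_ZZ hz hz1]
  exact c.mem_centralizer_singleton.mpr h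

/-- P6 -/
theorem P6 {z : G} (hz : z ∈ ZZ A) (hzp : (orderOf z).Prime) {g : G}
    (hg : g * z * g⁻¹ ∈ A) : g ∈ normalizer (A : Set G) := by
  haveI := Fact.mk hzp
  have hz1 : z ≠ 1 := by
    intro h
    rw [h, orderOf_one] at hzp
    exact Nat.not_prime_one hzp
  have hzsp : g * z * g⁻¹ ∈ sp A (orderOf z) :=
    mem_sp_of hg 1 (by rw [pow_one, conj_pow, pow_orderOf_eq_one]; group)
  -- `g⁻¹` maps `sc A p` into itself
  have h1 : ∀ y ∈ sc A (orderOf z), g⁻¹ * y * g ∈ sc A (orderOf z) := by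
    intro y hy
    have hcomm := commute_sp_sc c.nilA hzsp hy
    have hA : g⁻¹ * y * g ∈ A := by
      apply c.mem_A_of_commute hz hz1
      have e1 : z * (g⁻¹ * y * g) = g⁻¹ * (g * z * g⁻¹ * y) * g := by group
      have e2 : g⁻¹ * y * g * z = g⁻¹ * (y * (g * z * g⁻¹)) * g := by group
      rw [e1, e2, hcomm]
    apply mem_sc_of hA
    rw [orderOf_conj'']
    exact coprime_of_mem_sc c.nilA hy
  have hginv : g⁻¹ ∈ normalizer (sc A (orderOf z) : Set G) := by
    apply Subgroup.mem_normalizer_fintype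
    intro y hy
    have := h1 y hy
    rwa [inv_inv]
  have hgn : g ∈ normalizer (sc A (orderOf z) : Set G) := by
    have := inv_mem hginv
    rwa [inv_inv] at this
  obtain ⟨z'', hz''K, hz''Z, hz''p⟩ := exists_ZZ_prime_in c.nilA (sc_le A (orderOf z))
    (le_normalizer_sc A (orderOf z)) (c.symm.sc_ne_bot (orderOf z))
  have hz''1 : z'' ≠ 1 := by
    intro h
    rw [h, orderOf_one] at hz''p
    exact Nat.not_prime_one hz''p
  apply Subgroup.mem_normalizer_fintype
  intro x hx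
  obtain ⟨u, hu, v, hv, rfl⟩ := exists_mul_sp_sc (p := orderOf z) (SetLike.mem_coe.mp hx)
  have e : g * (u * v) * g⁻¹ = (g * u * g⁻¹) * (g * v * g⁻¹) := by group
  rw [e]
  apply A.mul_mem
  · apply c.mem_A_of_commute hz''Z hz''1
    have h2 : g⁻¹ * z'' * g ∈ sc A (orderOf z) := h1 z'' hz''K
    have hcomm := commute_sp_sc c.nilA hu h2
    have e1 : z'' * (g * u * g⁻¹) = g * (g⁻¹ * z'' * g * u) * g⁻¹ := by group
    have e2 : g * u * g⁻¹ * z'' = g * (u * (g⁻¹ * z'' * g)) * g⁻¹ := by group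
    rw [e1, e2, hcomm]
  · exact sc_le A _ (conj_mem_of_mem_normalizer hgn hv)

/-- P7 -/
theorem P7 {z : G} (hz : z ∈ ZZ A) (hz1 : z ≠ 1) {q : ℕ} [hq : Fact q.Prime]
    (hqA : ¬ q ∣ Nat.card A) {Y : Subgroup G} (hY : IsPGroup q Y)
    (hzY : z ∈ normalizer (Y : Set G)) : Y = ⊥ := by
  by_contra hne
  have hqB := c.dvd_card_B_of_not_dvd hq.out (dvd_card_of_ne_bot hY hne) hqA
  exact hne (c.symm.gen_zw_aux hqB hz hz1 hY hzY)

/-- L13 -/
theorem fac_centralizer {d : G} (hdA : d ∈ normalizer (A : Set G))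
    (hdB : d ∈ normalizer (B : Set G)) :
    ∀ x ∈ centralizer ({d} : Set G), ∃ a ∈ A ⊓ centralizer ({d} : Set G),
      ∃ b ∈ B ⊓ centralizer ({d} : Set G), x = a * b := by
  intro x hx
  obtain ⟨a, ha, b, hb, rfl⟩ := c.fac x
  have h1 : d * (a * b) = a * b * d := c.mem_centralizer_singleton.mp hx
  have h2 : (d * a * d⁻¹) * (d * b * d⁻¹) = a * b := by
    have : (d * a * d⁻¹) * (d * b * d⁻¹) = d * (a * b) * d⁻¹ := by group
    rw [this, h1]; group
  obtain ⟨e1, e2⟩ := c.eq_of_mul_eq (conj_mem_of_mem_normalizer hdA ha) ha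
    (conj_mem_of_mem_normalizer hdB hb) hb h2
  refine ⟨a, ⟨ha, c.mem_centralizer_singleton.mpr ?_⟩, b,
    ⟨hb, c.mem_centralizer_singleton.mpr ?_⟩, rfl⟩
  · have := congrArg (fun t => t * d) e1
    simpa using this
  · have := congrArg (fun t => t * d) e2
    simpa using this

theorem conj_pow_mem {a b : G} (ha : a ∈ A) (hb : b ∈ normalizer (A : Set G)) (k : ℕ) :
    ∃ a' ∈ A, (a * b) ^ k = a' * b ^ k := by
  induction k with
  | zero => exact ⟨1, A.one_mem, by simp⟩
  | succ k ih =>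
    obtain ⟨a', ha', h⟩ := ih
    refine ⟨a' * (b ^ k * a * (b ^ k)⁻¹), A.mul_mem ha'
      (conj_mem_of_mem_normalizer (pow_mem hb k) ha), ?_⟩
    rw [pow_succ, h, pow_succ]
    group

/-- elements of `N_G(A)` whose order divides `|A|` lie in `A` -/
theorem mem_of_mem_normalizer_of_orderOf_dvd {y : G} (hy : y ∈ normalizer (A : Set G))
    (ho : orderOf y ∣ Nat.card A) : y ∈ A := by
  obtain ⟨a, ha, b, hb, rfl⟩ := c.fac y
  have hbN : b ∈ normalizer (A : Set G) := by
    have : b = a⁻¹ * (a * b) := by group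
    rw [this]
    exact mul_mem (inv_mem (le_normalizer ha)) hy
  obtain ⟨a', ha', h⟩ := c.conj_pow_mem ha hbN (orderOf (a * b))
  rw [pow_orderOf_eq_one] at h
  have hbA : b ^ orderOf (a * b) ∈ A ⊓ B := by
    refine Subgroup.mem_inf.mpr ⟨?_, B.pow_mem hb _⟩
    have : b ^ orderOf (a * b) = a'⁻¹ := by
      have := congrArg (fun t => a'⁻¹ * t) h
      simpa using this.symm
    rw [this]
    exact A.inv_mem ha'
  rw [c.inf_eq_bot, mem_bot] at hbA
  have h1 : orderOf b ∣ orderOf (a * b) := orderOf_dvd_of_pow_eq_one hbA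
  have h2 : orderOf b ∣ Nat.card B := Subgroup.orderOf_dvd_natCard _ hb
  have h3 : orderOf b = 1 := Nat.eq_one_of_dvd_coprimes c.cop (h1.trans ho) h2
  rw [orderOf_eq_one_iff] at h3
  subst h3
  simpa using ha

theorem commute_sc_of_normalizes (r : ℕ) [hr : Fact r.Prime] (hrA : r ∣ Nat.card A)
    {R : Subgroup G} (hRp : IsPGroup r R) (hn : sc A r ≤ normalizer (R : Set G)) :
    ∀ x ∈ sc A r, ∀ y ∈ R, x * y = y * x := by
  have hT : ∀ p : ℕ, p.Prime → p ∣ Nat.card (sc A r ⊔ R : Subgroup G) → p ∣ Nat.card A := by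
    intro p hp hpd
    have h1 := Cfsg.Agent.Lib.Helper55.card_sup_dvd_mul_of_le_normalizer (sc A r) R hn
    rcases (Nat.Prime.dvd_mul hp).mp (hpd.trans h1) with h | h
    · exact h.trans (c.card_sc_dvd r)
    · obtain ⟨n, hn⟩ := IsPGroup.iff_card.mp hRp
      rw [hn] at h
      have := (Nat.prime_dvd_prime_iff_eq hp hr.out).mp (hp.dvd_of_dvd_pow h)
      subst this
      exact hrA
  obtain ⟨b, _, hconj⟩ := c.symm.conj_into (sc A r ⊔ R) hT
  intro x hx y hy
  have hx' := hconj x (le_sup_left (a := sc A r) hx)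
  have hy' := hconj y (le_sup_right (b := R) hy)
  have hcop : (orderOf (b⁻¹ * x * b)).Coprime (orderOf (b⁻¹ * y * b)) := by
    rw [orderOf_conj'', orderOf_conj'']
    obtain ⟨k, hk⟩ := hRp ⟨y, hy⟩
    have hk' : y ^ r ^ k = 1 := by
      have := congrArg (fun z : R => (z : G)) hk
      simpa using this
    have h2 : orderOf y ∣ r ^ k := orderOf_dvd_of_pow_eq_one hk'
    exact Nat.Coprime.coprime_dvd_right h2
      (Nat.Coprime.pow_right k (coprime_of_mem_sc c.nilA hx))
  have h := commute_of_mem_of_coprime c.nilA hx' hy' hcop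
  have e1 : b⁻¹ * x * b * (b⁻¹ * y * b) = b⁻¹ * (x * y) * b := by group
  have e2 : b⁻¹ * y * b * (b⁻¹ * x * b) = b⁻¹ * (y * x) * b := by group
  rw [e1, e2] at h
  exact mul_left_cancel (mul_right_cancel h)

theorem not_sc_le_pgroup (r : ℕ) [hr : Fact r.Prime] {R : Subgroup G} (hRp : IsPGroup r R) :
    ¬ sc A r ≤ R := by
  intro hle
  apply c.symm.sc_ne_bot r
  rw [eq_bot_iff]
  intro x hx
  have h1 : (orderOf x).Coprime r := coprime_of_mem_sc c.nilA hx
  obtain ⟨k, hk⟩ := hRp ⟨x, hle hx⟩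
  have hk' : x ^ r ^ k = 1 := by
    have := congrArg (fun z : R => (z : G)) hk
    simpa using this
  have h2 : orderOf x ∣ r ^ k := orderOf_dvd_of_pow_eq_one hk'
  have h3 : orderOf x = 1 := (Nat.Coprime.pow_right k h1).eq_one_of_dvd h2
  exact mem_bot.mpr (orderOf_eq_one_iff.mp h3)

theorem ne_one_of_prime_order {a : G} (hap : (orderOf a).Prime) : a ≠ 1 := by
  intro h
  rw [h, orderOf_one] at hap
  exact Nat.not_prime_one hap

theorem centralizer_ne_top {a : G} (ha1 : a ≠ 1) : centralizer ({a} : Set G) ≠ ⊤ := by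
  intro h
  have : a ∈ center G := by
    rw [mem_center_iff]
    intro g
    have hg : g ∈ centralizer ({a} : Set G) := h ▸ mem_top g
    exact (c.mem_centralizer_singleton.mp hg).symm
  rw [c.center_eq_bot, mem_bot] at this
  exact ha1 this

/-- L14 -/
theorem L14 {a : G} (haA : a ∈ A) (haB : a ∈ normalizer (B : Set G)) (hap : (orderOf a).Prime) :
    B ⊓ centralizer ({a} : Set G) ≤ normalizer (A : Set G) := by
  haveI := Fact.mk hap
  have ha1 : a ≠ 1 := c.ne_one_of_prime_order hap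
  have hrA : orderOf a ∣ Nat.card A := Subgroup.orderOf_dvd_natCard _ haA
  have hasp : a ∈ sp A (orderOf a) :=
    mem_sp_of haA 1 (by rw [pow_one]; exact pow_orderOf_eq_one a)
  have hXtop := c.centralizer_ne_top ha1
  have hfacX := c.fac_centralizer (le_normalizer haA) haB
  have hsolvX : Group.IsSolvable (centralizer ({a} : Set G)) := c.ih _ hXtop hfacX
  have hscX : sc A (orderOf a) ≤ centralizer ({a} : Set G) := by
    intro y hy
    exact c.mem_centralizer_singleton.mpr (commute_sp_sc c.nilA hasp hy)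
  have hex : ∃ (t : ℕ) (_ : t.Prime) (_ : t ≠ orderOf a) (D : Subgroup G),
      D ≤ centralizer ({a} : Set G) ∧ centralizer ({a} : Set G) ≤ normalizer (D : Set G) ∧
      IsPGroup t D ∧ D ≠ ⊥ := by
    by_contra hcon
    obtain ⟨R, _, hXR, hRp, hRc⟩ := hh_sub _ hsolvX (orderOf a)
      (fun t ht htr D h1 h2 h3 => by
        by_contra h4
        exact hcon ⟨t, ht, htr, D, h1, h2, h3, h4⟩)
    have hcomm := c.commute_sc_of_normalizes (orderOf a) hrA hRp (hscX.trans hXR)
    exact c.not_sc_le_pgroup (orderOf a) hRp (fun x hx => hRc x (hscX hx) (hcomm x hx))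
  obtain ⟨t, ht, htr, D, _, hXD, hDp, hDne⟩ := hex
  haveI := Fact.mk ht
  obtain ⟨z₀, hz₀, hz₀1⟩ := c.exists_ZZ_ne_one
  have hz₀X : z₀ ∈ centralizer ({a} : Set G) :=
    c.mem_centralizer_singleton.mpr ((mem_ZZ.mp hz₀).2 a haA)
  have htA : t ∣ Nat.card A := by
    by_contra h
    exact hDne (c.P7 hz₀ hz₀1 h hDp (hXD hz₀X))
  have hsptX : sp A t ≤ centralizer ({a} : Set G) := (sp_le_sc A ht hap htr).trans hscX
  have hDsp : D ≤ sp A t :=
    c.le_sp_of_normalizes (c.not_dvd_card_B ht htA) hDp (hsptX.trans hXD)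
  have hAD : A ≤ normalizer (D : Set G) := by
    intro x hx
    obtain ⟨u, hu, v, hv, rfl⟩ := exists_mul_sp_sc (p := t) hx
    apply mul_mem (hXD (hsptX hu))
    apply mem_normalizer_of_commute
    intro d hd
    exact commute_sp_sc c.nilA (hDsp hd) hv
  obtain ⟨z, hzD, hzZ, hzp⟩ := exists_ZZ_prime_in c.nilA (hDsp.trans (sp_le A t)) hAD hDne
  intro y hy
  have hyX : y ∈ centralizer ({a} : Set G) := (Subgroup.mem_inf.mp hy).2
  have h1 : y * z * y⁻¹ ∈ D := conj_mem_of_mem_normalizer (hXD hyX) hzD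
  exact c.P6 hzZ hzp ((hDsp.trans (sp_le A t)) h1)

end MC

end Cfsg.Agent.Lib.Helper96.KW
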