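import Mathlib
import Cfsg.Agent.Lib.Helper96.KW.Local
import Cfsg.Agent.Lib.Helper35.HallFusion
import Cfsg.Agent.Lib.Helper24.SylowInv

set_option autoImplicit false
set_option linter.style.haveILetI false
set_option linter.unusedSectionVars false

/-! The conjugates of the factors are TI sets. -/

namespace Cfsg.Agent.Lib.Helper96.KW

open Subgroup
open scoped Pointwise

variable {G : Type*} [Group G] [Finite G]

namespace MC

variable {A B : Subgroup G} (c : MC A B)
include c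

theorem conj_mem_centralizer {u x g : G} (hg : g ∈ centralizer ({u} : Set G)) :
    x * g * x⁻¹ ∈ centralizer ({x * u * x⁻¹} : Set G) := by
  rw [c.mem_centralizer_singleton] at hg ⊢
  have e1 : x * u * x⁻¹ * (x * g * x⁻¹) = x * (u * g) * x⁻¹ := by group
  have e2 : x * g * x⁻¹ * (x * u * x⁻¹) = x * (g * u) * x⁻¹ := by group
  rw [e1, e2, hg]

theorem TI_caseII {u x b : G} (huA : u ∈ A) (hup : (orderOf u).Prime) (hx : x ∈ A) (hb : b ∈ B)
    (hbN : b ∈ normalizer (A : Set G)) (hb1 : b ≠ 1)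
    (hcomm : b * (x * u * x⁻¹) = (x * u * x⁻¹) * b) :
    centralizer ({u} : Set G) ≤ normalizer (A : Set G) := by
  have hob : orderOf b ≠ 1 := fun h => hb1 (orderOf_eq_one_iff.mp h)
  obtain ⟨q, hq, hqd⟩ := Nat.exists_prime_and_dvd hob
  have hb'o : orderOf (b ^ (orderOf b / q)) = q :=
    orderOf_pow_orderOf_div (orderOf_pos b).ne' hqd
  have hb'B : b ^ (orderOf b / q) ∈ B := B.pow_mem hb _
  have hb'N : b ^ (orderOf b / q) ∈ normalizer (A : Set G) := pow_mem hbN _
  have hu'A : x * u * x⁻¹ ∈ A := A.mul_mem (A.mul_mem hx huA) (A.inv_mem hx)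
  have hu'p : (orderOf (x * u * x⁻¹)).Prime := by rw [orderOf_conj']; exact hup
  have hcomm' : b ^ (orderOf b / q) * (x * u * x⁻¹) = (x * u * x⁻¹) * b ^ (orderOf b / q) :=
    ((Commute.pow_left (show Commute b (x * u * x⁻¹) from hcomm) _)).eq
  have hu'B : x * u * x⁻¹ ∈ normalizer (B : Set G) :=
    c.symm.L14 hb'B hb'N (by rw [hb'o]; exact hq)
      (Subgroup.mem_inf.mpr ⟨hu'A, c.mem_centralizer_singleton.mpr hcomm'⟩)
  have hfac := c.fac_centralizer (d := x * u * x⁻¹) (le_normalizer hu'A) hu'B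
  have hL := c.L14 hu'A hu'B hu'p
  have hcent : centralizer ({x * u * x⁻¹} : Set G) ≤ normalizer (A : Set G) := by
    intro g hg
    obtain ⟨a, ha, b₂, hb₂, rfl⟩ := hfac g hg
    exact mul_mem (le_normalizer (Subgroup.mem_inf.mp ha).1) (hL hb₂)
  intro g hg
  have h2 := hcent (c.conj_mem_centralizer (x := x) hg)
  have e : g = x⁻¹ * (x * g * x⁻¹) * x := by group
  rw [e]
  exact mul_mem (mul_mem (inv_mem (le_normalizer hx)) h2) (le_normalizer hx)

theorem caseI_step1 {u : G}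
    (hno : ∀ x ∈ A, ∀ b ∈ B, b ∈ normalizer (A : Set G) →
      b * (x * u * x⁻¹) = (x * u * x⁻¹) * b → b = 1) :
    ∀ g ∈ centralizer ({u} : Set G), g ∈ normalizer (A : Set G) → g ∈ A := by
  intro g hgX hgN
  apply c.mem_of_mem_normalizer_of_orderOf_dvd hgN
  apply orderOf_dvd_of_pow_eq_one
  have hyB : ∀ p : ℕ, p.Prime → p ∣ Nat.card (zpowers (g ^ Nat.card A)) → p ∣ Nat.card B := by
    intro p _ hpd
    rw [Nat.card_zpowers] at hpd
    have : (g ^ Nat.card A) ^ Nat.card B = 1 := by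
      rw [← pow_mul, c.card_mul, pow_card_eq_one']
    exact hpd.trans (orderOf_dvd_of_pow_eq_one this)
  obtain ⟨a, ha, hconj⟩ := c.conj_into (zpowers (g ^ Nat.card A)) hyB
  have h1 : a⁻¹ * g ^ Nat.card A * a ∈ B := hconj _ (mem_zpowers _)
  have hyN : g ^ Nat.card A ∈ normalizer (A : Set G) := pow_mem hgN _
  have h2 : a⁻¹ * g ^ Nat.card A * a ∈ normalizer (A : Set G) :=
    mul_mem (mul_mem (inv_mem (le_normalizer ha)) hyN) (le_normalizer ha)
  have hyX : g ^ Nat.card A ∈ centralizer ({u} : Set G) := pow_mem hgX _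
  have h3 := c.conj_mem_centralizer (x := a⁻¹) hyX
  rw [c.mem_centralizer_singleton, inv_inv] at h3
  have h4 := hno a⁻¹ (A.inv_mem ha) _ h1 h2 (by rw [inv_inv]; exact h3.symm)
  have e : g ^ Nat.card A = a * (a⁻¹ * g ^ Nat.card A * a) * a⁻¹ := by group
  rw [e, h4]
  group

theorem sp_ne_bot {r : ℕ} [hr : Fact r.Prime] (hrA : r ∣ Nat.card A) : sp A r ≠ ⊥ := by
  intro h
  have h1 := (parts c.nilA r).2.2
  rw [h] at h1
  have h2 : Nat.card (sc A r) = Nat.card A := by simpa using h1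
  have h3 := (parts c.nilA r).2.1
  rw [h2] at h3
  exact (Nat.Prime.coprime_iff_not_dvd hr.out).mp h3.symm hrA

theorem orderOf_eq_of_mem_sp {r : ℕ} [hr : Fact r.Prime] {z : G} (hz : z ∈ sp A r)
    (hzp : (orderOf z).Prime) : orderOf z = r := by
  obtain ⟨k, hk⟩ := pow_eq_one_of_mem_sp c.nilA hz
  have h1 : orderOf z ∣ r ^ k := orderOf_dvd_of_pow_eq_one hk
  exact (Nat.prime_dvd_prime_iff_eq hzp hr.out).mp (hzp.dvd_of_dvd_pow h1)

theorem caseI_fusion {u z : G} {r : ℕ} [hr : Fact r.Prime] (hrA : r ∣ Nat.card A)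
    (huA : u ∈ A)
    (hXN : ∀ g ∈ centralizer ({u} : Set G), g ∈ normalizer (A : Set G) → g ∈ A)
    (hzR : z ∈ sp A r) (hzZ : z ∈ ZZ A) (hzp : (orderOf z).Prime) :
    ∀ x ∈ sp A r, ∀ y ∈ sp A r, ∀ g ∈ centralizer ({u} : Set G), g * x * g⁻¹ = y →
      ∃ h ∈ sp A r, h * x * h⁻¹ = y := by
  intro x hx y hy g hg hgxy
  have hzcomm : ∀ a ∈ A, a * z = z * a := (mem_ZZ.mp hzZ).2
  have hzX : z ∈ centralizer ({u} : Set G) := c.mem_centralizer_singleton.mpr (hzcomm u huA)
  have hzC : z ∈ centralizer ({y} : Set G) ⊓ centralizer ({u} : Set G) :=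
    Subgroup.mem_inf.mpr ⟨c.mem_centralizer_singleton.mpr (hzcomm y (sp_le A r hy)), hzX⟩
  have hz₂C : g * z * g⁻¹ ∈ centralizer ({y} : Set G) ⊓ centralizer ({u} : Set G) := by
    refine Subgroup.mem_inf.mpr ⟨?_, mul_mem (mul_mem hg hzX) (inv_mem hg)⟩
    rw [← hgxy]
    exact c.conj_mem_centralizer (x := g)
      (c.mem_centralizer_singleton.mpr (hzcomm x (sp_le A r hx)))
  obtain ⟨kz, hkz⟩ := pow_eq_one_of_mem_sp c.nilA hzR
  obtain ⟨c₀, hc₀C, T, hTp, hzT, hz₂T⟩ := exists_conj_in_pgroup (p := r) _ hzC hz₂C ⟨kz, hkz⟩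
    ⟨kz, by rw [conj_pow, hkz]; group⟩
  obtain ⟨b, _, hconjT⟩ := c.symm.conj_into_sp (c.not_dvd_card_B hr.out hrA) hTp
  have hbN : b⁻¹ ∈ normalizer (A : Set G) := by
    apply c.P6 hzZ hzp
    rw [inv_inv]
    exact sp_le A r (hconjT z hzT)
  have hbN' : b ∈ normalizer (A : Set G) := by
    have := inv_mem hbN
    rwa [inv_inv] at this
  have hTA : ∀ d ∈ T, d ∈ A := by
    intro d hd
    have h1 := sp_le A r (hconjT d hd)
    have h2 := conj_mem_of_mem_normalizer hbN' h1
    have e : b * (b⁻¹ * d * b) * b⁻¹ = d := by group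
    rwa [e] at h2
  have h3 : (c₀ * g) * z * (c₀ * g)⁻¹ ∈ A := by
    have e : (c₀ * g) * z * (c₀ * g)⁻¹ = c₀ * (g * z * g⁻¹) * c₀⁻¹ := by group
    rw [e]
    exact hTA _ hz₂T
  have hc₀gN : c₀ * g ∈ normalizer (A : Set G) := c.P6 hzZ hzp h3
  have hc₀gX : c₀ * g ∈ centralizer ({u} : Set G) := mul_mem (Subgroup.mem_inf.mp hc₀C).2 hg
  have ha' : c₀ * g ∈ A := hXN _ hc₀gX hc₀gN
  have hconjxy : (c₀ * g) * x * (c₀ * g)⁻¹ = y := by
    have e : (c₀ * g) * x * (c₀ * g)⁻¹ = c₀ * (g * x * g⁻¹) * c₀⁻¹ := by group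
    rw [e, hgxy]
    have h4 : y * c₀ = c₀ * y := c.mem_centralizer_singleton.mp (Subgroup.mem_inf.mp hc₀C).1
    rw [← h4]
    group
  obtain ⟨h, hh, v, hv, e⟩ := exists_mul_sp_sc (p := r) ha'
  refine ⟨h, hh, ?_⟩
  have hvx : x * v = v * x := commute_sp_sc c.nilA hx hv
  rw [← hconjxy, e]
  have e2 : h * v * x * (h * v)⁻¹ = h * (v * x * v⁻¹) * h⁻¹ := by group
  rw [e2, ← hvx]
  group

theorem TI_caseI {u : G} (huA : u ∈ A) (hup : (orderOf u).Prime)
    (hno : ∀ x ∈ A, ∀ b ∈ B, b ∈ normalizer (A : Set G) →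
      b * (x * u * x⁻¹) = (x * u * x⁻¹) * b → b = 1) :
    centralizer ({u} : Set G) ≤ A := by
  haveI := Fact.mk hup
  have hXN := c.caseI_step1 hno
  have hscne := c.symm.sc_ne_bot (orderOf u)
  have hcard : Nat.card (sc A (orderOf u)) ≠ 1 := fun h => hscne ((Subgroup.card_eq_one).mp h)
  obtain ⟨r, hr, hrd⟩ := Nat.exists_prime_and_dvd hcard
  haveI := Fact.mk hr
  have hrp : r ≠ orderOf u := by
    intro h
    rw [h] at hrd
    exact (Nat.Prime.coprime_iff_not_dvd hup).mp (parts c.nilA _).2.1.symm hrd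
  have hrA : r ∣ Nat.card A := hrd.trans (c.card_sc_dvd _)
  have husp : u ∈ sp A (orderOf u) :=
    mem_sp_of huA 1 (by rw [pow_one]; exact pow_orderOf_eq_one u)
  have hscX : sc A (orderOf u) ≤ centralizer ({u} : Set G) :=
    fun y hy => c.mem_centralizer_singleton.mpr (commute_sp_sc c.nilA husp hy)
  have hRX : sp A r ≤ centralizer ({u} : Set G) := (sp_le_sc A hr hup hrp).trans hscX
  obtain ⟨z, hzR, hzZ, hzp⟩ := exists_ZZ_prime_in c.nilA (sp_le A r) (le_normalizer_sp A r)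
    (c.sp_ne_bot hrA)
  have hzo : orderOf z = r := c.orderOf_eq_of_mem_sp hzR hzp
  have hz1 : z ≠ 1 := c.ne_one_of_prime_order hzp
  have hzX : z ∈ centralizer ({u} : Set G) := hRX hzR
  have hfus := c.caseI_fusion hrA huA hXN hzR hzZ hzp
  have hHp : IsPGroup r ((sp A r).subgroupOf (centralizer ({u} : Set G))) :=
    (parts c.nilA r).1.comap_subtype
  have hcH : Nat.card ((sp A r).subgroupOf (centralizer ({u} : Set G))) = Nat.card (sp A r) :=
    Nat.card_congr (subgroupOfEquivOfLe hRX).toEquiv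
  obtain ⟨n, hn⟩ := IsPGroup.iff_card.mp (parts c.nilA r).1
  have hHall : (Nat.card ((sp A r).subgroupOf (centralizer ({u} : Set G)))).Coprime
      ((sp A r).subgroupOf (centralizer ({u} : Set G))).index := by
    rw [hcH, hn]
    apply Nat.Coprime.pow_left
    rw [Nat.Prime.coprime_iff_not_dvd hr]
    intro h
    apply c.not_dvd_index_sp (c.not_dvd_card_B hr hrA)
    exact h.trans (Dvd.intro _ (relIndex_mul_index hRX))
  obtain ⟨K', hK'n, hK'i, hK'c⟩ :=
    Cfsg.Agent.Lib.Helper35.exists_normal_pComplement_of_hall_fusion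
      (G := centralizer ({u} : Set G)) ((sp A r).subgroupOf (centralizer ({u} : Set G)))
      hHp.isNilpotent hHall r
      (by rw [hcH]; exact dvd_card_of_ne_bot (parts c.nilA r).1 (c.sp_ne_bot hrA))
      (by
        rintro x hx y hy _ ⟨g, hg⟩
        obtain ⟨h, hh, he⟩ := hfus (x : G) (mem_subgroupOf.mp hx) (y : G) (mem_subgroupOf.mp hy)
          (g : G) g.2 (by
            have := congrArg Subtype.val hg
            simpa using this)
        exact ⟨⟨h, hRX hh⟩, mem_subgroupOf.mpr hh, by ext; simpa using he⟩)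
  have hpi : ∀ q : ℕ, q.Prime → q ∣ Nat.card (centralizer ({u} : Set G)) → q ∣ Nat.card A := by
    intro q hq hqX
    by_contra hqA
    haveI := Fact.mk hq
    have hqr : q ≠ r := fun h => hqA (h ▸ hrA)
    have hqK : q ∣ Nat.card K' := by
      have h1 : Nat.card (centralizer ({u} : Set G)) = Nat.card K' * K'.index :=
        (Subgroup.card_mul_index K').symm
      rw [h1, hK'i] at hqX
      rcases (Nat.Prime.dvd_mul hq).mp hqX with h | h
      · exact h
      · exact absurd ((Nat.prime_dvd_prime_iff_eq hq hr).mp (hq.dvd_of_dvd_pow h)) hqr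
    haveI := hK'n
    have hcKG : Nat.card (K'.map (centralizer ({u} : Set G)).subtype) = Nat.card K' :=
      Subgroup.card_map_of_injective (Subgroup.subtype_injective _)
    have hzn : zpowers z ≤
        normalizer ((K'.map (centralizer ({u} : Set G)).subtype : Subgroup G) : Set G) :=
      zpowers_le.mpr (le_normalizer_map_subtype _ K' hzX)
    have hcop : (Nat.card (zpowers z)).Coprime
        (Nat.card (K'.map (centralizer ({u} : Set G)).subtype)) := by
      rw [Nat.card_zpowers, hzo, hcKG]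
      exact hK'c.symm
    obtain ⟨P, hP⟩ := Cfsg.Agent.Lib.Helper24.exists_invariant_sylow (p := q) (zpowers z)
      (K'.map (centralizer ({u} : Set G)).subtype) hzn hcop (Or.inl inferInstance)
    have hPq : IsPGroup q ((P : Subgroup (K'.map (centralizer ({u} : Set G)).subtype)).map
        (Subgroup.subtype _)) := P.2.map _
    have h0 := c.P7 hzZ hz1 hqA hPq (hP (mem_zpowers z))
    rw [Subgroup.map_eq_bot_iff_of_injective _ (Subgroup.subtype_injective _)] at h0
    exact Sylow.ne_bot_of_dvd_card P (by rw [hcKG]; exact hqK) h0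
  obtain ⟨b, _, hconj⟩ := c.symm.conj_into (centralizer ({u} : Set G)) hpi
  have hbN : b⁻¹ ∈ normalizer (A : Set G) := by
    apply c.P6 hzZ hzp
    rw [inv_inv]
    exact hconj z hzX
  have hbN' : b ∈ normalizer (A : Set G) := by
    have := inv_mem hbN
    rwa [inv_inv] at this
  intro k hk
  have h1 := hconj k hk
  have h2 := conj_mem_of_mem_normalizer hbN' h1
  have e : b * (b⁻¹ * k * b) * b⁻¹ = k := by group
  rwa [e] at h2

/-- centralizers of elements of prime order of `A` normalize `A` -/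
theorem TI {u : G} (huA : u ∈ A) (hup : (orderOf u).Prime) :
    centralizer ({u} : Set G) ≤ normalizer (A : Set G) := by
  by_cases h : ∃ x ∈ A, ∃ b ∈ B, b ∈ normalizer (A : Set G) ∧ b ≠ 1 ∧
      b * (x * u * x⁻¹) = (x * u * x⁻¹) * b
  · obtain ⟨x, hx, b, hb, hbN, hb1, hcomm⟩ := h
    exact c.TI_caseII huA hup hx hb hbN hb1 hcomm
  · refine (c.TI_caseI huA hup (fun x hx b hb hbN hcomm => ?_)).trans le_normalizer
    by_contra hb1
    exact h ⟨x, hx, b, hb, hbN, hb1, hcomm⟩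

end MC

end Cfsg.Agent.Lib.Helper96.KW
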