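import Mathlib
import Cfsg.Agent.Lib.Helper96.KW.TI
import Cfsg.Agent.S3993

set_option autoImplicit false
set_option linter.style.haveILetI false
set_option linter.unusedSectionVars false

/-! The counting argument finishing the minimal counterexample. -/

namespace Cfsg.Agent.Lib.Helper96.KW

open Subgroup
open scoped Pointwise

variable {G : Type*} [Group G] [Finite G]

theorem mem_conj_smul {A : Subgroup G} {g x : G} :
    x ∈ MulAut.conj g • A ↔ g⁻¹ * x * g ∈ A := by
  rw [Subgroup.mem_smul_pointwise_iff_exists]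
  constructor
  · rintro ⟨a, ha, rfl⟩
    simp only [MulAut.smul_def, MulAut.conj_apply]
    have e : g⁻¹ * (g * a * g⁻¹) * g = a := by group
    rw [e]; exact ha
  · intro h
    refine ⟨g⁻¹ * x * g, h, ?_⟩
    simp only [MulAut.smul_def, MulAut.conj_apply]
    group

theorem card_ne_one_subtype (H : Subgroup G) :
    Nat.card {x : G // x ∈ H ∧ x ≠ 1} = Nat.card H - 1 := by
  have h1 : Nat.card {x : G // x ∈ H ∧ x ≠ 1} = ((H : Set G) \ {1}).ncard := by
    rw [← Nat.card_coe_set_eq]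
    rfl
  rw [h1, Set.ncard_diff_singleton_of_mem (H.one_mem), ← Nat.card_coe_set_eq]
  rfl

namespace MC

variable {A B : Subgroup G} (c : MC A B)
include c

theorem TI2 {x g : G} (hx : x ∈ A) (hx1 : x ≠ 1) (hxg : g⁻¹ * x * g ∈ A) :
    g ∈ normalizer (A : Set G) := by
  have hox : orderOf x ≠ 1 := fun h => hx1 (orderOf_eq_one_iff.mp h)
  obtain ⟨p, hp, hpd⟩ := Nat.exists_prime_and_dvd hox
  have huo : orderOf (x ^ (orderOf x / p)) = p :=
    orderOf_pow_orderOf_div (orderOf_pos x).ne' hpd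
  have huA : x ^ (orderOf x / p) ∈ A := A.pow_mem hx _
  have hu'A : g⁻¹ * x ^ (orderOf x / p) * g ∈ A := by
    have e : g⁻¹ * x ^ (orderOf x / p) * g = (g⁻¹ * x * g) ^ (orderOf x / p) := by
      have := conj_pow (a := g⁻¹) (b := x) (i := orderOf x / p)
      rw [inv_inv] at this
      exact this.symm
    rw [e]
    exact A.pow_mem hxg _
  have hu'p : (orderOf (g⁻¹ * x ^ (orderOf x / p) * g)).Prime := by
    rw [orderOf_conj'', huo]; exact hp
  have hT := c.TI hu'A hu'p
  obtain ⟨z₀, hz₀A, hz₀Z, hz₀p⟩ := exists_ZZ_prime_in c.nilA (le_refl A) le_normalizer c.ne_bot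
  have h0 : z₀ ∈ centralizer ({x ^ (orderOf x / p)} : Set G) :=
    c.mem_centralizer_singleton.mpr ((mem_ZZ.mp hz₀Z).2 _ huA)
  have h1 := c.conj_mem_centralizer (x := g⁻¹) h0
  rw [inv_inv] at h1
  have h2 := hT h1
  have h3 : g⁻¹ * z₀ * g ∈ A := by
    apply c.mem_of_mem_normalizer_of_orderOf_dvd h2
    rw [orderOf_conj'']
    exact Subgroup.orderOf_dvd_natCard _ hz₀A
  have h4 : g⁻¹ ∈ normalizer (A : Set G) := c.P6 hz₀Z hz₀p (by rwa [inv_inv])
  have := inv_mem h4
  rwa [inv_inv] at this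

theorem pow_card_eq_one_of_mem_conj {g x : G} (hx : x ∈ MulAut.conj g • A) :
    x ^ Nat.card A = 1 := by
  rw [mem_conj_smul] at hx
  have h1 : (g⁻¹ * x * g) ^ Nat.card A = 1 := by
    have := pow_card_eq_one' (G := A) (x := ⟨_, hx⟩)
    exact congrArg (fun t : A => (t : G)) this
  have e : (g⁻¹ * x * g) ^ Nat.card A = g⁻¹ * x ^ Nat.card A * g := by
    have := conj_pow (a := g⁻¹) (b := x) (i := Nat.card A)
    rw [inv_inv] at this
    exact this
  rw [e] at h1
  have : x ^ Nat.card A = g * (g⁻¹ * x ^ Nat.card A * g) * g⁻¹ := by group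
  rw [this, h1]
  group

theorem card_T : Nat.card {x : G // x ≠ 1 ∧ x ^ Nat.card A = 1} =
    Nat.card (Set.range (fun g : G => MulAut.conj g • A)) * (Nat.card A - 1) := by
  classical
  haveI : Fintype (Set.range (fun g : G => MulAut.conj g • A)) := Fintype.ofFinite _
  let f : (Σ C : Set.range (fun g : G => MulAut.conj g • A),
      {x : G // x ∈ (C : Subgroup G) ∧ x ≠ 1}) → {x : G // x ≠ 1 ∧ x ^ Nat.card A = 1} :=
    fun p => ⟨p.2.1, p.2.2.2, by
      obtain ⟨⟨C, g, hg⟩, ⟨x, hx, hx1⟩⟩ := p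
      simp only at hx ⊢
      rw [← hg] at hx
      exact c.pow_card_eq_one_of_mem_conj hx⟩
  have hf : Function.Bijective f := by
    constructor
    · rintro ⟨⟨C₁, hC₁⟩, ⟨x₁, hx₁, hx₁1⟩⟩ ⟨⟨C₂, hC₂⟩, ⟨x₂, hx₂, hx₂1⟩⟩ h
      have hx : x₁ = x₂ := congrArg (fun t : {x : G // x ≠ 1 ∧ x ^ Nat.card A = 1} => (t : G)) h
      subst hx
      have hC : C₁ = C₂ := by
        obtain ⟨g₁, rfl⟩ := hC₁
        obtain ⟨g₂, rfl⟩ := hC₂
        simp only at hx₁ hx₂
        rw [mem_conj_smul] at hx₁ hx₂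
        have ha1 : g₁⁻¹ * x₁ * g₁ ≠ 1 := by
          intro h0
          apply hx₁1
          have : x₁ = g₁ * (g₁⁻¹ * x₁ * g₁) * g₁⁻¹ := by group
          rw [this, h0]; group
        have hh : (g₁⁻¹ * g₂)⁻¹ * (g₁⁻¹ * x₁ * g₁) * (g₁⁻¹ * g₂) ∈ A := by
          have e : (g₁⁻¹ * g₂)⁻¹ * (g₁⁻¹ * x₁ * g₁) * (g₁⁻¹ * g₂) = g₂⁻¹ * x₁ * g₂ := by group
          rw [e]; exact hx₂
        have hN := c.TI2 hx₁ ha1 hh
        ext y
        simp only
        rw [mem_conj_smul, mem_conj_smul]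
        have e : g₂⁻¹ * y * g₂ = (g₁⁻¹ * g₂)⁻¹ * (g₁⁻¹ * y * g₁) * (g₁⁻¹ * g₂) := by group
        rw [e]
        constructor
        · intro hy
          exact conj_mem_of_mem_normalizer' hN hy
        · intro hy
          have := conj_mem_of_mem_normalizer hN hy
          have e2 : g₁⁻¹ * g₂ * ((g₁⁻¹ * g₂)⁻¹ * (g₁⁻¹ * y * g₁) * (g₁⁻¹ * g₂)) * (g₁⁻¹ * g₂)⁻¹
              = g₁⁻¹ * y * g₁ := by group
          rwa [e2] at this
      subst hC
      rfl
    · rintro ⟨x, hx1, hxα⟩
      have hK : ∀ p : ℕ, p.Prime → p ∣ Nat.card (zpowers x) → p ∣ Nat.card A := by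
        intro p _ hpd
        rw [Nat.card_zpowers] at hpd
        exact hpd.trans (orderOf_dvd_of_pow_eq_one hxα)
      obtain ⟨b, _, hconj⟩ := c.symm.conj_into (zpowers x) hK
      have hmem : x ∈ MulAut.conj b • A := mem_conj_smul.mpr (hconj x (mem_zpowers x))
      exact ⟨⟨⟨MulAut.conj b • A, b, rfl⟩, ⟨x, hmem, hx1⟩⟩, rfl⟩
  rw [← Nat.card_congr (Equiv.ofBijective f hf), Nat.card_sigma]
  have hconst : ∀ C : Set.range (fun g : G => MulAut.conj g • A),
      Nat.card {x : G // x ∈ (C : Subgroup G) ∧ x ≠ 1} = Nat.card A - 1 := by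
    rintro ⟨C, g, rfl⟩
    rw [card_ne_one_subtype]
    have : Nat.card (MulAut.conj g • A : Subgroup G) = Nat.card A :=
      Nat.card_congr (Subgroup.equivSMul (MulAut.conj g) A).toEquiv.symm
    rw [this]
  rw [Finset.sum_congr rfl (fun C _ => hconst C), Finset.sum_const, Finset.card_univ,
    smul_eq_mul, ← Nat.card_eq_fintype_card]

theorem conj_smul_eq_of_mem {a : G} (ha : a ∈ A) (b : G) :
    MulAut.conj (b * a) • A = MulAut.conj b • A := by
  ext y
  rw [mem_conj_smul, mem_conj_smul]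
  have e : (b * a)⁻¹ * y * (b * a) = a⁻¹ * (b⁻¹ * y * b) * a := by group
  rw [e]
  constructor
  · intro h
    have := A.mul_mem (A.mul_mem ha h) (A.inv_mem ha)
    have e2 : a * (a⁻¹ * (b⁻¹ * y * b) * a) * a⁻¹ = b⁻¹ * y * b := by group
    rwa [e2] at this
  · intro h
    exact A.mul_mem (A.mul_mem (A.inv_mem ha) h) ha

theorem lt_card : Nat.card A < Nat.card B := by
  classical
  have hα2 : 2 ≤ Nat.card A := by
    have h1 : Nat.card A ≠ 1 := fun h => c.ne_bot ((Subgroup.card_eq_one).mp h)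
    have h2 : 0 < Nat.card A := Nat.card_pos
    omega
  have h1 : Nat.card A ∣ Nat.card {g : G // g ^ Nat.card A = 1} :=
    Cfsg.Agent.S3993.result (Nat.card A) (Dvd.intro _ c.card_mul)
  have h2 : Nat.card {g : G // g ^ Nat.card A = 1} =
      Nat.card {x : G // x ≠ 1 ∧ x ^ Nat.card A = 1} + 1 := by
    have e1 : Nat.card {g : G // g ^ Nat.card A = 1} = ({g : G | g ^ Nat.card A = 1}).ncard := by
      rw [← Nat.card_coe_set_eq]; rfl
    have e2 : Nat.card {x : G // x ≠ 1 ∧ x ^ Nat.card A = 1} =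
        ({x : G | x ≠ 1 ∧ x ^ Nat.card A = 1}).ncard := by
      rw [← Nat.card_coe_set_eq]; rfl
    have e3 : {g : G | g ^ Nat.card A = 1} = insert 1 {x : G | x ≠ 1 ∧ x ^ Nat.card A = 1} := by
      ext g
      simp only [Set.mem_setOf_eq, Set.mem_insert_iff]
      constructor
      · intro h
        by_cases hg : g = 1
        · exact Or.inl hg
        · exact Or.inr ⟨hg, h⟩
      · rintro (h | h)
        · rw [h, one_pow]
        · exact h.2
    rw [e1, e2, e3, Set.ncard_insert_of_notMem (by simp) (Set.toFinite _)]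
  rw [h2, c.card_T] at h1
  -- the number of conjugates
  have hk1 : 1 ≤ Nat.card (Set.range (fun g : G => MulAut.conj g • A)) := by
    haveI : Nonempty (Set.range (fun g : G => MulAut.conj g • A)) := ⟨⟨_, 1, rfl⟩⟩
    exact Nat.card_pos
  have hkB : Nat.card (Set.range (fun g : G => MulAut.conj g • A)) ≤ Nat.card B := by
    apply Nat.card_le_card_of_surjective
      (fun b : B => (⟨MulAut.conj (b : G) • A, (b : G), rfl⟩ :
        Set.range (fun g : G => MulAut.conj g • A)))
    rintro ⟨C, g, rfl⟩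
    obtain ⟨b, hb, a, ha, rfl⟩ := c.fac' g
    refine ⟨⟨b, hb⟩, ?_⟩
    apply Subtype.ext
    exact (c.conj_smul_eq_of_mem ha b).symm
  have hdvd : Nat.card A ∣ Nat.card (Set.range (fun g : G => MulAut.conj g • A)) - 1 := by
    have e : (Nat.card (Set.range (fun g : G => MulAut.conj g • A)) - 1) +
        (Nat.card (Set.range (fun g : G => MulAut.conj g • A)) * (Nat.card A - 1) + 1) =
        Nat.card (Set.range (fun g : G => MulAut.conj g • A)) * Nat.card A := by
      obtain ⟨k, hk⟩ : ∃ k, Nat.card (Set.range (fun g : G => MulAut.conj g • A)) = k + 1 :=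
        ⟨_, (Nat.sub_add_cancel hk1).symm⟩
      obtain ⟨m, hm⟩ : ∃ m, Nat.card A = m + 1 := ⟨Nat.card A - 1, by omega⟩
      rw [hk, hm]
      simp only [Nat.add_sub_cancel]
      ring
    have h3 : Nat.card A ∣ (Nat.card (Set.range (fun g : G => MulAut.conj g • A)) - 1) +
        (Nat.card (Set.range (fun g : G => MulAut.conj g • A)) * (Nat.card A - 1) + 1) := by
      rw [e]; exact Dvd.intro_left _ rfl
    exact (Nat.dvd_add_left h1).mp h3
  by_cases hk : Nat.card (Set.range (fun g : G => MulAut.conj g • A)) = 1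
  · exfalso
    -- `A` is normal
    haveI := c.simple
    obtain ⟨hsub, _⟩ := Nat.card_eq_one_iff_unique.mp hk
    have hAn : A.Normal := by
      refine ⟨fun n hn g => ?_⟩
      have h3 : (⟨MulAut.conj g⁻¹ • A, g⁻¹, rfl⟩ : Set.range (fun g : G => MulAut.conj g • A)) =
          ⟨MulAut.conj (1 : G) • A, 1, rfl⟩ := Subsingleton.elim _ _
      have h4 : MulAut.conj g⁻¹ • A = MulAut.conj (1 : G) • A := congrArg Subtype.val h3
      have h5 : n ∈ MulAut.conj (1 : G) • A := by
        rw [mem_conj_smul]; simpa using hn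
      rw [← h4, mem_conj_smul, inv_inv] at h5
      exact h5
    rcases hAn.eq_bot_or_eq_top with h | h
    · exact c.ne_bot h
    · apply c.symm.ne_bot
      have := c.inf_eq_bot
      rw [h, top_inf_eq] at this
      exact this
  · have h4 : 1 ≤ Nat.card (Set.range (fun g : G => MulAut.conj g • A)) - 1 := by omega
    have h5 := Nat.le_of_dvd h4 hdvd
    omega

theorem false : False := lt_irrefl _ (c.lt_card.trans c.symm.lt_card)

end MC

end Cfsg.Agent.Lib.Helper96.KW
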