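import Mathlib
import Cfsg.Agent.Lib.Helper96.KW.Parts
import Cfsg.Agent.Lib.Helper24.FactorSylow
import Cfsg.Agent.Lib.Helper54.PConstr4
import Cfsg.Agent.S0566

set_option autoImplicit false
set_option linter.style.haveILetI false
set_option linter.unusedSectionVars false

/-! Kegel's enlargement argument for `p`-subgroups all of whose conjugates permute. -/

namespace Cfsg.Agent.Lib.Helper96.KW

open Subgroup
open scoped Pointwise
open Cfsg.Agent.S0566 (cjs mem_cjs exists_sup_mul)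

variable {G : Type*} [Group G] [Finite G]

/-- `P` permutes with every conjugate of `Q` -/
def Perm (P Q : Subgroup G) : Prop :=
  ∀ x : G, ∃ S : Subgroup G, ∀ g, g ∈ S ↔ ∃ a ∈ P, ∃ b ∈ Q, g = a * (x * b * x⁻¹)

theorem Perm.sup_cjs {P Q : Subgroup G} (h : Perm P Q) (c : G) : Perm (P ⊔ cjs c P) Q := by
  intro x
  obtain ⟨S, hS⟩ := h x
  obtain ⟨S'', hS''⟩ := h (c⁻¹ * x)
  have hS1 : ∀ y, y ∈ S ↔ ∃ a ∈ P, ∃ d ∈ cjs x Q, y = a * d := by
    intro y
    rw [hS]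
    constructor
    · rintro ⟨a, ha, b, hb, rfl⟩
      exact ⟨a, ha, _, mem_cjs.mpr ⟨b, hb, rfl⟩, rfl⟩
    · rintro ⟨a, ha, d, hd, rfl⟩
      obtain ⟨b, hb, rfl⟩ := mem_cjs.mp hd
      exact ⟨a, ha, b, hb, rfl⟩
  have hS2 : ∀ y, y ∈ cjs c S'' ↔ ∃ a ∈ cjs c P, ∃ d ∈ cjs x Q, y = a * d := by
    intro y
    constructor
    · intro hy
      obtain ⟨w, hw, rfl⟩ := mem_cjs.mp hy
      obtain ⟨a, ha, b, hb, rfl⟩ := (hS'' w).mp hw
      refine ⟨c * a * c⁻¹, mem_cjs.mpr ⟨a, ha, rfl⟩, x * b * x⁻¹, mem_cjs.mpr ⟨b, hb, rfl⟩, ?_⟩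
      group
    · rintro ⟨a', ha', d, hd, rfl⟩
      obtain ⟨a, ha, rfl⟩ := mem_cjs.mp ha'
      obtain ⟨b, hb, rfl⟩ := mem_cjs.mp hd
      refine mem_cjs.mpr ⟨a * (c⁻¹ * x * b * (c⁻¹ * x)⁻¹), (hS'' _).mpr ⟨a, ha, b, hb, rfl⟩, ?_⟩
      group
  obtain ⟨T, hT⟩ := exists_sup_mul P (cjs c P) (cjs x Q) S (cjs c S'') hS1 hS2
  refine ⟨T, fun y => ?_⟩
  rw [hT]
  constructor
  · rintro ⟨a, ha, d, hd, rfl⟩
    obtain ⟨b, hb, rfl⟩ := mem_cjs.mp hd
    exact ⟨a, ha, b, hb, rfl⟩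
  · rintro ⟨a, ha, b, hb, rfl⟩
    exact ⟨a, ha, _, mem_cjs.mpr ⟨b, hb, rfl⟩, rfl⟩

theorem isPGroup_cjs {p : ℕ} {Q : Subgroup G} (hQ : IsPGroup p Q) (x : G) :
    IsPGroup p (cjs x Q) := hQ.map _

/-- if `P Q^x` is a subgroup then it is a `p`-group -/
theorem Perm.isPGroup {p : ℕ} [hp : Fact p.Prime] {P Q : Subgroup G} (hP : IsPGroup p P)
    (hQ : IsPGroup p Q) {x : G} {S : Subgroup G}
    (hS : ∀ g, g ∈ S ↔ ∃ a ∈ P, ∃ b ∈ Q, g = a * (x * b * x⁻¹)) : IsPGroup p S := by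
  have hset : (S : Set G) = (P : Set G) * (cjs x Q : Set G) := by
    ext g
    rw [SetLike.mem_coe, hS, Set.mem_mul]
    constructor
    · rintro ⟨a, ha, b, hb, rfl⟩
      exact ⟨a, ha, _, mem_cjs.mpr ⟨b, hb, rfl⟩, rfl⟩
    · rintro ⟨a, ha, d, hd, rfl⟩
      obtain ⟨b, hb, rfl⟩ := mem_cjs.mp hd
      exact ⟨a, ha, b, hb, rfl⟩
  have h1 := Cfsg.Agent.Lib.Helper24.card_mul_set_mul_card_inf P (cjs x Q)
  have e : Nat.card S = Nat.card ((P : Set G) * (cjs x Q : Set G) : Set G) := by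
    rw [← hset]; rfl
  obtain ⟨n, hn⟩ := IsPGroup.iff_card.mp hP
  obtain ⟨m, hm⟩ := IsPGroup.iff_card.mp (isPGroup_cjs hQ x)
  have hdvd : Nat.card S ∣ p ^ (n + m) := by
    rw [e, pow_add, ← hn, ← hm, ← h1]
    exact Dvd.intro _ rfl
  obtain ⟨j, _, hj⟩ := (Nat.dvd_prime_pow hp.out).mp hdvd
  exact IsPGroup.of_card hj

theorem lemmaK_aux {p : ℕ} [hp : Fact p.Prime] (Q : Subgroup G) (hQ : IsPGroup p Q)
    (hOp : ∀ D : Subgroup G, D.Normal → IsPGroup p D → D = ⊥) :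
    ∀ k : ℕ, ∀ P : Subgroup G, Nat.card G - Nat.card P ≤ k → IsPGroup p P → Perm P Q →
      ∀ u ∈ P, ∀ v ∈ normalClosure (Q : Set G), u * v = v * u := by
  intro k
  induction k using Nat.strong_induction_on with
  | _ k ih =>
  intro P hk hP hperm
  by_cases hex : ∃ g : G, ∃ b ∈ Q, g * b * g⁻¹ ∉ normalizer (P : Set G)
  · obtain ⟨g, b₀, hb₀, hcN⟩ := hex
    obtain ⟨S, hS⟩ := hperm g
    have hSp : IsPGroup p S := Perm.isPGroup hP hQ hS
    have hPS : P ≤ S := fun a ha => (hS a).mpr ⟨a, ha, 1, Q.one_mem, by simp⟩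
    have hcS : g * b₀ * g⁻¹ ∈ S := (hS _).mpr ⟨1, P.one_mem, b₀, hb₀, by simp⟩
    have hP'S : cjs (g * b₀ * g⁻¹) P ≤ S := by
      intro y hy
      obtain ⟨a, ha, rfl⟩ := mem_cjs.mp hy
      exact S.mul_mem (S.mul_mem hcS (hPS ha)) (S.inv_mem hcS)
    have hP₁p : IsPGroup p (P ⊔ cjs (g * b₀ * g⁻¹) P : Subgroup G) :=
      hSp.to_le (sup_le hPS hP'S)
    have hlt : Nat.card P < Nat.card (P ⊔ cjs (g * b₀ * g⁻¹) P : Subgroup G) := by
      by_contra hge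
      push Not at hge
      have heq : P = P ⊔ cjs (g * b₀ * g⁻¹) P := Subgroup.eq_of_le_of_card_ge le_sup_left hge
      apply hcN
      apply Subgroup.mem_normalizer_fintype
      intro n hn
      have : g * b₀ * g⁻¹ * n * (g * b₀ * g⁻¹)⁻¹ ∈ P ⊔ cjs (g * b₀ * g⁻¹) P :=
        (le_sup_right : cjs (g * b₀ * g⁻¹) P ≤ P ⊔ cjs (g * b₀ * g⁻¹) P)
          (mem_cjs.mpr ⟨n, hn, rfl⟩)
      rw [← heq] at this
      exact this
    have hcard : Nat.card (P ⊔ cjs (g * b₀ * g⁻¹) P : Subgroup G) ≤ Nat.card G :=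
      Subgroup.card_le_card_group _
    have hres := ih (Nat.card G - Nat.card (P ⊔ cjs (g * b₀ * g⁻¹) P : Subgroup G)) (by omega)
      (P ⊔ cjs (g * b₀ * g⁻¹) P) le_rfl hP₁p (hperm.sup_cjs _)
    intro u hu v hv
    exact hres u (le_sup_left (a := P) hu) v hv
  · push Not at hex
    have hle : normalClosure (Q : Set G) ≤ normalizer (P : Set G) := by
      unfold normalClosure
      rw [closure_le]
      intro y hy
      obtain ⟨b, hb, hconj⟩ := Group.mem_conjugatesOfSet_iff.mp hy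
      obtain ⟨c, hc⟩ := isConj_iff.mp hconj
      rw [← hc]
      exact hex c b hb
    -- `P ⊓ K` is trivial
    haveI hKn : (normalClosure (Q : Set G)).Normal := normalClosure_normal
    have hcore : Cfsg.pCore p G = ⊥ :=
      hOp _ (Cfsg.Agent.Lib.Helper55.pCore_normal' p) (Cfsg.Agent.Lib.Helper55.pCore_isPGroup p)
    have hD : P ⊓ normalClosure (Q : Set G) = ⊥ := by
      have hDn : ((P ⊓ normalClosure (Q : Set G)).subgroupOf (normalClosure (Q : Set G))).Normal := by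
        refine ⟨fun n hn g => ?_⟩
        rw [mem_subgroupOf] at hn ⊢
        have h1 := conj_mem_of_mem_normalizer (hle g.2) (Subgroup.mem_inf.mp hn).1
        have h2 : ((g * n * g⁻¹ : normalClosure (Q : Set G)) : G) ∈ normalClosure (Q : Set G) :=
          (g * n * g⁻¹).2
        exact Subgroup.mem_inf.mpr ⟨by simpa using h1, h2⟩
      have hDp : IsPGroup p ((P ⊓ normalClosure (Q : Set G)).subgroupOf (normalClosure (Q : Set G))) :=
        (hP.to_le inf_le_left).comap_subtype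
      have h1 : (P ⊓ normalClosure (Q : Set G)).subgroupOf (normalClosure (Q : Set G)) ≤
          Cfsg.pCore p (normalClosure (Q : Set G)) := by
        haveI := hDn
        exact Cfsg.Agent.Lib.Helper55.le_pCore p _ hDp
      have h2 := Cfsg.Agent.Lib.Helper54.map_pCore_le_of_normal p (normalClosure (Q : Set G))
      rw [hcore] at h2
      rw [eq_bot_iff]
      intro y hy
      have hyK : y ∈ normalClosure (Q : Set G) := (Subgroup.mem_inf.mp hy).2
      exact h2 ⟨⟨y, hyK⟩, h1 (mem_subgroupOf.mpr hy), rfl⟩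
    intro u hu v hv
    have h1 : u * v * u⁻¹ * v⁻¹ ∈ P ⊓ normalClosure (Q : Set G) := by
      refine Subgroup.mem_inf.mpr ⟨?_, ?_⟩
      · have h3 : v * u⁻¹ * v⁻¹ ∈ P := conj_mem_of_mem_normalizer (hle hv) (P.inv_mem hu)
        have e : u * v * u⁻¹ * v⁻¹ = u * (v * u⁻¹ * v⁻¹) := by group
        rw [e]
        exact P.mul_mem hu h3
      · have h3 : u * v * u⁻¹ ∈ normalClosure (Q : Set G) := hKn.conj_mem v hv u
        exact (normalClosure (Q : Set G)).mul_mem h3 ((normalClosure (Q : Set G)).inv_mem hv)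
    rw [hD, mem_bot] at h1
    have : u * v = (u * v * u⁻¹ * v⁻¹) * (v * u) := by group
    rw [this, h1, one_mul]

theorem lemmaK {p : ℕ} [hp : Fact p.Prime] (P Q : Subgroup G) (hP : IsPGroup p P)
    (hQ : IsPGroup p Q) (hperm : Perm P Q)
    (hOp : ∀ D : Subgroup G, D.Normal → IsPGroup p D → D = ⊥) :
    ∀ u ∈ P, ∀ v ∈ normalClosure (Q : Set G), u * v = v * u :=
  lemmaK_aux Q hQ hOp _ P le_rfl hP hperm

end Cfsg.Agent.Lib.Helper96.KW
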