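import Mathlib
import Cfsg.Agent.Lib.Helper96.KW.Count

set_option autoImplicit false
set_option linter.style.haveILetI false
set_option linter.unusedSectionVars false

/-! Wielandt's theorem: a product of two nilpotent groups of coprime orders is solvable. -/

namespace Cfsg.Agent.Lib.Helper96.KW

open Subgroup
open scoped Pointwise

universe u

theorem isNilpotent_of_injective' {H K : Type*} [Group H] [Group K] (f : H →* K)
    (hf : Function.Injective f) (hK : Group.IsNilpotent K) : Group.IsNilpotent H := by
  haveI := hK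
  apply Subgroup.isNilpotent_of_ker_le_center f
  rw [(MonoidHom.ker_eq_bot_iff f).mpr hf]
  exact bot_le

/-- the inclusion of `A ∩ L` (as a subgroup of `L`) into `A` -/
def subgroupOfHom {G : Type*} [Group G] (A L : Subgroup G) : A.subgroupOf L →* A where
  toFun x := ⟨((x : L) : G), mem_subgroupOf.mp x.2⟩
  map_one' := rfl
  map_mul' _ _ := rfl

theorem subgroupOfHom_injective {G : Type*} [Group G] (A L : Subgroup G) :
    Function.Injective (subgroupOfHom A L) := by
  intro x y h
  have := congrArg (fun t : A => (t : G)) h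
  exact Subtype.ext (Subtype.ext this)

theorem isNilpotent_map {G G' : Type*} [Group G] [Group G'] (f : G →* G') (A : Subgroup G)
    (hA : Group.IsNilpotent A) : Group.IsNilpotent (A.map f) := by
  haveI := hA
  exact Group.nilpotent_of_surjective (f.subgroupMap A) (f.subgroupMap_surjective A)

theorem coprime_solvable_aux : ∀ (n : ℕ) (G : Type u) [Group G] [Finite G] (A B : Subgroup G),
    Nat.card G = n → Group.IsNilpotent A → Group.IsNilpotent B →
    (Nat.card A).Coprime (Nat.card B) → (∀ g : G, ∃ a ∈ A, ∃ b ∈ B, g = a * b) →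
    Group.IsSolvable G := by
  intro n
  induction n using Nat.strong_induction_on with
  | _ n ih =>
  intro G _ _ A B hn hA hB hcop hfac
  by_contra hns
  -- induction hypothesis for factorized proper subgroups
  have hsub : ∀ L : Subgroup G, L ≠ ⊤ →
      (∀ l ∈ L, ∃ a ∈ A ⊓ L, ∃ b ∈ B ⊓ L, l = a * b) → Group.IsSolvable L := by
    intro L hL hfacL
    have hlt : Nat.card L < n := by
      rw [← hn]
      apply lt_of_le_of_ne (Subgroup.card_le_card_group L)
      intro h
      exact hL ((Subgroup.card_eq_iff_eq_top L).mp h)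
    refine ih _ hlt L (A.subgroupOf L) (B.subgroupOf L) rfl ?_ ?_ ?_ ?_
    · exact isNilpotent_of_injective' _ (subgroupOfHom_injective A L) hA
    · exact isNilpotent_of_injective' _ (subgroupOfHom_injective B L) hB
    · exact Nat.Coprime.coprime_dvd_left
        (Subgroup.card_dvd_of_injective _ (subgroupOfHom_injective A L))
        (Nat.Coprime.coprime_dvd_right
          (Subgroup.card_dvd_of_injective _ (subgroupOfHom_injective B L)) hcop)
    · intro g
      obtain ⟨a, ha, b, hb, e⟩ := hfacL g g.2
      refine ⟨⟨a, (Subgroup.mem_inf.mp ha).2⟩, mem_subgroupOf.mpr (Subgroup.mem_inf.mp ha).1,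
        ⟨b, (Subgroup.mem_inf.mp hb).2⟩, mem_subgroupOf.mpr (Subgroup.mem_inf.mp hb).1, ?_⟩
      exact Subtype.ext e
  haveI : Nontrivial G := by
    rw [← not_subsingleton_iff_nontrivial]
    intro h
    exact hns inferInstance
  have hsimple : IsSimpleGroup G := by
    refine ⟨fun N hN => ?_⟩
    by_contra hcon
    push Not at hcon
    obtain ⟨hNbot, hNtop⟩ := hcon
    haveI := hN
    have hdisj : (A.map (QuotientGroup.mk' N)) ⊓ (B.map (QuotientGroup.mk' N)) = ⊥ := by
      refine (Subgroup.disjoint_of_coprime_natCard ?_).eq_bot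
      exact Nat.Coprime.coprime_dvd_left (Subgroup.card_map_dvd A _)
        (Nat.Coprime.coprime_dvd_right (Subgroup.card_map_dvd B _) hcop)
    have hsolvN : Group.IsSolvable N := by
      apply hsub N hNtop
      intro l hl
      obtain ⟨a, ha, b, hb, rfl⟩ := hfac l
      have h1 : (QuotientGroup.mk' N) a ∈
          (A.map (QuotientGroup.mk' N)) ⊓ (B.map (QuotientGroup.mk' N)) := by
        refine Subgroup.mem_inf.mpr ⟨⟨a, ha, rfl⟩, ⟨b⁻¹, B.inv_mem hb, ?_⟩⟩
        have h2 : (QuotientGroup.mk' N) (a * b) = 1 := by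
          rw [← MonoidHom.mem_ker, QuotientGroup.ker_mk']; exact hl
        rw [map_mul] at h2
        rw [map_inv]
        exact (eq_inv_of_mul_eq_one_left h2).symm
      rw [hdisj, mem_bot, ← MonoidHom.mem_ker, QuotientGroup.ker_mk'] at h1
      have hbN : b ∈ N := by
        have : b = a⁻¹ * (a * b) := by group
        rw [this]
        exact N.mul_mem (N.inv_mem h1) hl
      exact ⟨a, Subgroup.mem_inf.mpr ⟨ha, h1⟩, b, Subgroup.mem_inf.mpr ⟨hb, hbN⟩, rfl⟩
    have hsolvQ : Group.IsSolvable (G ⧸ N) := by
      have hlt : Nat.card (G ⧸ N) < n := by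
        rw [← hn, Subgroup.card_eq_card_quotient_mul_card_subgroup N]
        have h1 : 1 < Nat.card N := (Subgroup.one_lt_card_iff_ne_bot N).mpr hNbot
        have h2 : 0 < Nat.card (G ⧸ N) := Nat.card_pos
        nlinarith
      refine ih _ hlt (G ⧸ N) (A.map (QuotientGroup.mk' N)) (B.map (QuotientGroup.mk' N)) rfl
        (isNilpotent_map _ A hA) (isNilpotent_map _ B hB) ?_ ?_
      · exact Nat.Coprime.coprime_dvd_left (Subgroup.card_map_dvd A _)
          (Nat.Coprime.coprime_dvd_right (Subgroup.card_map_dvd B _) hcop)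
      · intro g
        obtain ⟨g, rfl⟩ := QuotientGroup.mk'_surjective N g
        obtain ⟨a, ha, b, hb, rfl⟩ := hfac g
        exact ⟨_, ⟨a, ha, rfl⟩, _, ⟨b, hb, rfl⟩, map_mul _ _ _⟩
    apply hns
    exact Group.isSolvable_of_ker_le_range N.subtype (QuotientGroup.mk' N)
      (by rw [QuotientGroup.ker_mk', Subgroup.range_subtype])
  have c : MC A B :=
    { nilA := hA, nilB := hB, cop := hcop, fac := hfac, simple := hsimple, nonsolv := hns,
      ih := hsub }
  exact c.false

/-- Wielandt: a finite group which is the product of two nilpotent subgroups of coprime orders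
is solvable. -/
theorem coprime_solvable {G : Type u} [Group G] [Finite G] (A B : Subgroup G)
    (hA : Group.IsNilpotent A) (hB : Group.IsNilpotent B)
    (hcop : (Nat.card A).Coprime (Nat.card B)) (hfac : ∀ g : G, ∃ a ∈ A, ∃ b ∈ B, g = a * b) :
    Group.IsSolvable G :=
  coprime_solvable_aux (Nat.card G) G A B rfl hA hB hcop hfac

end Cfsg.Agent.Lib.Helper96.KW
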