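import Mathlib
import Cfsg.Agent.Lib.Helper96.KW.Main
import Cfsg.Agent.Lib.Helper96.KW.LemmaK
import Cfsg.Agent.S0559
import Cfsg.Agent.S0560

set_option autoImplicit false
set_option linter.style.haveILetI false
set_option linter.unusedSectionVars false

/-! The Kegel–Wielandt theorem. -/

namespace Cfsg.Agent.Lib.Helper96.KW

open Subgroup
open scoped Pointwise

universe u

section

variable {G : Type*} [Group G] [Finite G]

theorem sylow_map_eq_sp {A : Subgroup G} (hA : Group.IsNilpotent A) {p : ℕ} [Fact p.Prime]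
    (P : Sylow p A) : (P : Subgroup A).map A.subtype = sp A p := by
  have h1 : (P : Subgroup A).map A.subtype ≤ sp A p :=
    le_sp_of_isPGroup (P.2.map _) (map_subtype_le _)
  have h2 : IsPGroup p ((sp A p).subgroupOf A) := (parts hA p).1.comap_subtype
  have h3 : (P : Subgroup A) ≤ (sp A p).subgroupOf A := by
    intro x hx
    rw [mem_subgroupOf]
    exact h1 ⟨x, hx, rfl⟩
  have h4 := P.is_maximal' h2 h3
  rw [← h4, map_subgroupOf_eq_of_le (sp_le A p)]

theorem mem_sp_iff {A : Subgroup G} (hA : Group.IsNilpotent A) {p : ℕ} [Fact p.Prime] {x : G} :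
    x ∈ sp A p ↔ x ∈ A ∧ ∃ k : ℕ, x ^ p ^ k = 1 :=
  ⟨fun h => ⟨sp_le A p h, pow_eq_one_of_mem_sp hA h⟩, fun ⟨h1, k, hk⟩ => mem_sp_of h1 k hk⟩

theorem sp_ne_bot_of_dvd {A : Subgroup G} (hA : Group.IsNilpotent A) {p : ℕ} [hp : Fact p.Prime]
    (hpA : p ∣ Nat.card A) : sp A p ≠ ⊥ := by
  intro h
  have h1 := (parts hA p).2.2
  rw [h] at h1
  have h2 : Nat.card (sc A p) = Nat.card A := by simpa using h1
  have h3 := (parts hA p).2.1
  rw [h2] at h3
  exact (Nat.Prime.coprime_iff_not_dvd hp.out).mp h3.symm hpA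

theorem perm_sp (A B : Subgroup G) (hA : Group.IsNilpotent A) (hB : Group.IsNilpotent B)
    (hfac : ∀ g : G, ∃ a ∈ A, ∃ b ∈ B, g = a * b) (p : ℕ) [Fact p.Prime] :
    Perm (sp A p) (sp B p) := by
  intro x
  have hfac' := (Cfsg.Agent.S0559.result A B A (MulAut.conj x • B) hfac ⟨1, by simp⟩ ⟨x, rfl⟩).1
  obtain ⟨P', Q', R, hR⟩ := Cfsg.Agent.S0560.result A (MulAut.conj x • B) hfac' p
  have hBx : Group.IsNilpotent (MulAut.conj x • B : Subgroup G) := by
    haveI := hB
    exact Group.nilpotent_of_mulEquiv (Subgroup.equivSMul (MulAut.conj x) B)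
  rw [sylow_map_eq_sp hA P', sylow_map_eq_sp hBx Q'] at hR
  refine ⟨R, fun g => ?_⟩
  rw [← SetLike.mem_coe, hR, Set.mem_mul]
  constructor
  · rintro ⟨a, ha, d, hd, rfl⟩
    obtain ⟨hdB, k, hk⟩ := (mem_sp_iff hBx).mp hd
    rw [mem_conj_smul] at hdB
    refine ⟨a, ha, x⁻¹ * d * x, mem_sp_of hdB k ?_, by group⟩
    have := conj_pow (a := x⁻¹) (b := d) (i := p ^ k)
    rw [inv_inv] at this
    rw [this, hk]
    group
  · rintro ⟨a, ha, b, hb, rfl⟩
    refine ⟨a, ha, x * b * x⁻¹, ?_, rfl⟩
    obtain ⟨hbB, k, hk⟩ := (mem_sp_iff hB).mp hb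
    refine mem_sp_of (mem_conj_smul.mpr ?_) k (by rw [conj_pow, hk]; group)
    have e : x⁻¹ * (x * b * x⁻¹) * x = b := by group
    rw [e]
    exact hbB

end

theorem kw_aux : ∀ (n : ℕ) (G : Type u) [Group G] [Finite G] (A B : Subgroup G),
    Nat.card G = n → Group.IsNilpotent A → Group.IsNilpotent B →
    (∀ g : G, ∃ a ∈ A, ∃ b ∈ B, g = a * b) → Group.IsSolvable G := by
  intro n
  induction n using Nat.strong_induction_on with
  | _ n ih =>
  intro G _ _ A B hn hA hB hfac
  by_cases hcop : (Nat.card A).Coprime (Nat.card B)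
  · exact coprime_solvable A B hA hB hcop hfac
  obtain ⟨p, hp, hpA, hpB⟩ := Nat.Prime.not_coprime_iff_dvd.mp hcop
  haveI := Fact.mk hp
  have hquot : ∀ (N : Subgroup G) [N.Normal], N ≠ ⊥ → Group.IsSolvable (G ⧸ N) := by
    intro N hN hNbot
    have hlt : Nat.card (G ⧸ N) < n := by
      rw [← hn, Subgroup.card_eq_card_quotient_mul_card_subgroup N]
      have h1 : 1 < Nat.card N := (Subgroup.one_lt_card_iff_ne_bot N).mpr hNbot
      have h2 : 0 < Nat.card (G ⧸ N) := Nat.card_pos
      nlinarith
    refine ih _ hlt (G ⧸ N) (A.map (QuotientGroup.mk' N)) (B.map (QuotientGroup.mk' N)) rfl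
      (isNilpotent_map _ A hA) (isNilpotent_map _ B hB) ?_
    intro g
    obtain ⟨g, rfl⟩ := QuotientGroup.mk'_surjective N g
    obtain ⟨a, ha, b, hb, rfl⟩ := hfac g
    exact ⟨_, ⟨a, ha, rfl⟩, _, ⟨b, hb, rfl⟩, map_mul _ _ _⟩
  have hext : ∀ (N : Subgroup G) [N.Normal], Group.IsSolvable N → Group.IsSolvable (G ⧸ N) →
      Group.IsSolvable G := by
    intro N hN h1 h2
    exact Group.isSolvable_of_ker_le_range N.subtype (QuotientGroup.mk' N)
      (by rw [QuotientGroup.ker_mk', Subgroup.range_subtype])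
  by_cases hOp : ∀ D : Subgroup G, D.Normal → IsPGroup p D → D = ⊥
  · have hPne := sp_ne_bot_of_dvd hA hpA
    have hQne := sp_ne_bot_of_dvd hB hpB
    have hK := lemmaK (sp A p) (sp B p) (parts hA p).1 (parts hB p).1 (perm_sp A B hA hB hfac p) hOp
    haveI hKn : (normalClosure (sp B p : Set G)).Normal := normalClosure_normal
    have hKne : normalClosure (sp B p : Set G) ≠ ⊥ := by
      intro h
      apply hQne
      rw [eq_bot_iff, ← h]
      exact le_normalClosure
    have hCn : (centralizer ((normalClosure (sp B p : Set G) : Subgroup G) : Set G)).Normal :=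
      inferInstance
    have hPC : sp A p ≤ centralizer ((normalClosure (sp B p : Set G) : Subgroup G) : Set G) := by
      intro u hu
      rw [mem_centralizer_iff]
      intro v hv
      exact (hK u hu v hv).symm
    have hCne : centralizer ((normalClosure (sp B p : Set G) : Subgroup G) : Set G) ≠ ⊥ := by
      intro h
      apply hPne
      rw [eq_bot_iff, ← h]
      exact hPC
    by_cases hZ : centralizer ((normalClosure (sp B p : Set G) : Subgroup G) : Set G) ⊓
        normalClosure (sp B p : Set G) = ⊥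
    · haveI := hquot _ hKne
      have hCs : Group.IsSolvable
          (centralizer ((normalClosure (sp B p : Set G) : Subgroup G) : Set G)) := by
        apply Group.isSolvable_of_isSolvable_injective
          (f := (QuotientGroup.mk' (normalClosure (sp B p : Set G))).comp
            (centralizer ((normalClosure (sp B p : Set G) : Subgroup G) : Set G)).subtype)
        rw [injective_iff_map_eq_one]
        intro x hx
        rw [MonoidHom.comp_apply, ← MonoidHom.mem_ker, QuotientGroup.ker_mk'] at hx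
        have h1 : (x : G) ∈ centralizer ((normalClosure (sp B p : Set G) : Subgroup G) : Set G) ⊓
            normalClosure (sp B p : Set G) := Subgroup.mem_inf.mpr ⟨x.2, hx⟩
        rw [hZ, mem_bot] at h1
        exact Subtype.ext h1
      haveI := hCn
      exact hext _ hCs (hquot _ hCne)
    · have hZn : (centralizer ((normalClosure (sp B p : Set G) : Subgroup G) : Set G) ⊓
          normalClosure (sp B p : Set G)).Normal := inferInstance
      have hZs : Group.IsSolvable (centralizer ((normalClosure (sp B p : Set G) : Subgroup G) : Set G) ⊓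
          normalClosure (sp B p : Set G) : Subgroup G) := by
        apply isSolvable_of_comm
        intro a b
        have ha := (Subgroup.mem_inf.mp a.2).1
        have hb := (Subgroup.mem_inf.mp b.2).2
        have := (mem_centralizer_iff.mp ha) (b : G) hb
        exact Subtype.ext this.symm
      haveI := hZn
      exact hext _ hZs (hquot _ hZ)
  · push Not at hOp
    obtain ⟨D, hDn, hDp, hDne⟩ := hOp
    have hDnil : Group.IsNilpotent D := hDp.isNilpotent
    have hDs : Group.IsSolvable D := @IsNilpotent.to_isSolvable _ _ hDnil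
    haveI := hDn
    exact hext D hDs (hquot D hDne)

/-- The Kegel–Wielandt theorem -/
theorem kegel_wielandt {G : Type u} [Group G] [Finite G] (A B : Subgroup G)
    (hA : Group.IsNilpotent A) (hB : Group.IsNilpotent B)
    (hfac : ∀ g : G, ∃ a ∈ A, ∃ b ∈ B, g = a * b) : Group.IsSolvable G :=
  kw_aux (Nat.card G) G A B rfl hA hB hfac

end Cfsg.Agent.Lib.Helper96.KW
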