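import Mathlib
import Cfsg.Agent.Lib.Helper96.KW.Kegel
import Cfsg.Agent.Lib.Helper10.MinNormal

set_option autoImplicit false
set_option linter.style.haveILetI false
set_option linter.unusedSectionVars false

/-! A product of two nilpotent groups has a proper normal subgroup containing a factor. -/

namespace Cfsg.Agent.Lib.Helper96.KW

open Subgroup
open scoped Pointwise

universe u

/-- in a finite nilpotent group every proper subgroup lies in a proper normal subgroup -/
theorem exists_normal_ge_of_nilpotent {G : Type*} [Group G] [Finite G] (hG : Group.IsNilpotent G)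
    (B : Subgroup G) (hB : B ≠ ⊤) : ∃ N : Subgroup G, N.Normal ∧ N ≠ ⊤ ∧ B ≤ N := by
  rcases eq_top_or_exists_le_coatom B with h | ⟨M, hM, hBM⟩
  · exact absurd h hB
  · have h3 := ((Group.isNilpotent_of_finite_tfae (G := G)).out 0 2).mp hG
    exact ⟨M, h3 M hM, hM.1, hBM⟩

theorem isNilpotent_of_eq_top {G : Type*} [Group G] {A : Subgroup G} (hA : Group.IsNilpotent A)
    (h : A = ⊤) : Group.IsNilpotent G := by
  subst h
  haveI := hA
  exact Group.nilpotent_of_mulEquiv (Subgroup.topEquiv : (⊤ : Subgroup G) ≃* G)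

/-- the key step: a nilpotent proper supplement of all nontrivial normal subgroups has order
prime to `q`, where a minimal normal subgroup `N` is a `q`-group -/
theorem not_dvd_card_of_supplement {G : Type*} [Group G] [Finite G] {q : ℕ} [hq : Fact q.Prime]
    (N : Subgroup G) [hNn : N.Normal] (hNne : N ≠ ⊥) (hNp : IsPGroup q N)
    (hNc : IsMulCommutative N)
    (hmin : ∀ L : Subgroup G, L.Normal → L ≤ N → L = ⊥ ∨ L = N)
    (X : Subgroup G) (hX : Group.IsNilpotent X) (hXtop : X ≠ ⊤)
    (hsupp : ∀ N' : Subgroup G, N'.Normal → N' ≠ ⊥ → X ⊔ N' = ⊤) : ¬ q ∣ Nat.card X := by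
  intro hqX
  have hcomm := isMulCommutative_iff_of_setLike.mp hNc
  have hXN : X ⊔ N = ⊤ := hsupp N hNn hNne
  -- the centralizer of `N` in `X` is trivial
  have hC : X ⊓ centralizer (N : Set G) = ⊥ := by
    by_contra hCne
    have hCn : (X ⊓ centralizer (N : Set G)).Normal := by
      have : normalizer ((X ⊓ centralizer (N : Set G) : Subgroup G) : Set G) = ⊤ := by
        rw [eq_top_iff, ← hXN]
        apply sup_le
        · intro g hg
          apply Subgroup.mem_normalizer_fintype
          intro c hc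
          have hc' := Subgroup.mem_inf.mp hc
          refine Subgroup.mem_inf.mpr ⟨X.mul_mem (X.mul_mem hg hc'.1) (X.inv_mem hg), ?_⟩
          exact (inferInstance : (centralizer (N : Set G)).Normal).conj_mem c hc'.2 g
        · intro n hn
          apply Subgroup.mem_normalizer_fintype
          intro c hc
          have hc' := Subgroup.mem_inf.mp hc
          have h1 : n * c = c * n := (mem_centralizer_iff.mp hc'.2) n hn
          have e : n * c * n⁻¹ = c := by rw [h1]; group
          rw [e]
          exact hc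
      exact normalizer_eq_top_iff.mp this
    have h1 := hsupp _ hCn hCne
    apply hXtop
    rw [← h1]
    exact (sup_eq_left.mpr inf_le_left).symm
  -- the Sylow `q`-subgroup of `X`
  have hSne : sp X q ≠ ⊥ := sp_ne_bot_of_dvd hX hqX
  have hSp : IsPGroup q (sp X q) := (parts hX q).1
  have hT : IsPGroup q (sp X q ⊔ N : Subgroup G) := IsPGroup.to_sup_of_normal_right hSp hNp
  have hNTn : (N.subgroupOf (sp X q ⊔ N)).Normal := inferInstance
  have hNTne : N.subgroupOf (sp X q ⊔ N) ≠ ⊥ := by
    intro h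
    apply hNne
    rw [eq_bot_iff]
    intro n hn
    have : (⟨n, le_sup_right (a := sp X q) hn⟩ : (sp X q ⊔ N : Subgroup G)) ∈
        N.subgroupOf (sp X q ⊔ N) := mem_subgroupOf.mpr hn
    rw [h, mem_bot] at this
    exact mem_bot.mpr (congrArg Subtype.val this)
  obtain ⟨x, hxN, hxc, hx1⟩ :=
    Cfsg.Agent.Lib.Helper32.exists_ne_one_mem_normal_inf_center hT _ hNTne
  -- `D = C_N(S)` is a nontrivial normal subgroup
  have hDne : N ⊓ centralizer (sp X q : Set G) ≠ ⊥ := by
    intro h
    apply hx1
    have h1 : (x : G) ∈ N ⊓ centralizer (sp X q : Set G) := by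
      refine Subgroup.mem_inf.mpr ⟨mem_subgroupOf.mp hxN, ?_⟩
      rw [mem_centralizer_iff]
      intro s hs
      have := (mem_center_iff.mp hxc) ⟨s, le_sup_left (a := sp X q) hs⟩
      exact congrArg (fun t : (sp X q ⊔ N : Subgroup G) => (t : G)) this
    rw [h, mem_bot] at h1
    exact Subtype.ext h1
  have hDn : (N ⊓ centralizer (sp X q : Set G)).Normal := by
    have : normalizer ((N ⊓ centralizer (sp X q : Set G) : Subgroup G) : Set G) = ⊤ := by
      rw [eq_top_iff, ← hXN]
      apply sup_le
      · intro g hg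
        apply Subgroup.mem_normalizer_fintype
        intro d hd
        have hd' := Subgroup.mem_inf.mp hd
        refine Subgroup.mem_inf.mpr ⟨hNn.conj_mem d hd'.1 g, ?_⟩
        rw [mem_centralizer_iff]
        intro s hs
        have hs' : g⁻¹ * s * g ∈ sp X q := conj_mem_of_mem_normalizer' (le_normalizer_sp X q hg) hs
        have h1 : g⁻¹ * s * g * d = d * (g⁻¹ * s * g) := (mem_centralizer_iff.mp hd'.2) _ hs'
        have e1 : s * (g * d * g⁻¹) = g * (g⁻¹ * s * g * d) * g⁻¹ := by group
        have e2 : g * d * g⁻¹ * s = g * (d * (g⁻¹ * s * g)) * g⁻¹ := by group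
        rw [e1, e2, h1]
      · intro n hn
        apply Subgroup.mem_normalizer_fintype
        intro d hd
        have hd' := Subgroup.mem_inf.mp hd
        have h1 : n * d = d * n := hcomm n hn d hd'.1
        have e : n * d * n⁻¹ = d := by rw [h1]; group
        rw [e]
        exact hd
    exact normalizer_eq_top_iff.mp this
  rcases hmin _ hDn inf_le_left with h | h
  · exact hDne h
  · -- `S` centralizes `N`
    apply hSne
    rw [eq_bot_iff, ← hC]
    intro s hs
    refine Subgroup.mem_inf.mpr ⟨sp_le X q hs, ?_⟩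
    rw [mem_centralizer_iff]
    intro n hn
    have hn' : n ∈ N ⊓ centralizer (sp X q : Set G) := by rw [h]; exact hn
    exact ((mem_centralizer_iff.mp (Subgroup.mem_inf.mp hn').2) s hs).symm

theorem normal_factor_aux : ∀ (n : ℕ) (G : Type u) [Group G] [Finite G] (A B : Subgroup G),
    Nat.card G = n → Group.IsNilpotent A → Group.IsNilpotent B →
    (∀ g : G, ∃ a ∈ A, ∃ b ∈ B, g = a * b) → (A ≠ ⊤ ∨ B ≠ ⊤) →
    ∃ N : Subgroup G, N.Normal ∧ N ≠ ⊤ ∧ (A ≤ N ∨ B ≤ N) := by
  intro n
  induction n using Nat.strong_induction_on with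
  | _ n ih =>
  intro G _ _ A B hn hA hB hfac hproper
  by_cases hAtop : A = ⊤
  · have hBtop : B ≠ ⊤ := by
      rcases hproper with h | h
      · exact absurd hAtop h
      · exact h
    obtain ⟨N, h1, h2, h3⟩ := exists_normal_ge_of_nilpotent (isNilpotent_of_eq_top hA hAtop) B hBtop
    exact ⟨N, h1, h2, Or.inr h3⟩
  by_cases hBtop : B = ⊤
  · obtain ⟨N, h1, h2, h3⟩ := exists_normal_ge_of_nilpotent (isNilpotent_of_eq_top hB hBtop) A hAtop
    exact ⟨N, h1, h2, Or.inl h3⟩
  by_cases hstar : ∃ N' : Subgroup G, N'.Normal ∧ N' ≠ ⊥ ∧ (A ⊔ N' ≠ ⊤ ∨ B ⊔ N' ≠ ⊤)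
  · obtain ⟨N', hN'n, hN'ne, hN'⟩ := hstar
    haveI := hN'n
    have hlt : Nat.card (G ⧸ N') < n := by
      rw [← hn, Subgroup.card_eq_card_quotient_mul_card_subgroup N']
      have h1 : 1 < Nat.card N' := (Subgroup.one_lt_card_iff_ne_bot N').mpr hN'ne
      have h2 : 0 < Nat.card (G ⧸ N') := Nat.card_pos
      nlinarith
    have hmapne : ∀ X : Subgroup G, X ⊔ N' ≠ ⊤ → X.map (QuotientGroup.mk' N') ≠ ⊤ := by
      intro X hX h
      apply hX
      have h1 := Subgroup.comap_map_eq (QuotientGroup.mk' N') X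
      rw [h, QuotientGroup.ker_mk', comap_top] at h1
      exact h1.symm
    obtain ⟨M, hMn, hMtop, hM⟩ := ih _ hlt (G ⧸ N') (A.map (QuotientGroup.mk' N'))
      (B.map (QuotientGroup.mk' N')) rfl (isNilpotent_map _ A hA) (isNilpotent_map _ B hB)
      (by
        intro g
        obtain ⟨g, rfl⟩ := QuotientGroup.mk'_surjective N' g
        obtain ⟨a, ha, b, hb, rfl⟩ := hfac g
        exact ⟨_, ⟨a, ha, rfl⟩, _, ⟨b, hb, rfl⟩, map_mul _ _ _⟩)
      (by
        rcases hN' with h | h
        · exact Or.inl (hmapne A h)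
        · exact Or.inr (hmapne B h))
    refine ⟨M.comap (QuotientGroup.mk' N'), hMn.comap _, ?_, ?_⟩
    · intro h
      apply hMtop
      rw [← Subgroup.map_comap_eq_self_of_surjective (QuotientGroup.mk'_surjective N') M, h,
        ← MonoidHom.range_eq_map, MonoidHom.range_eq_top.mpr (QuotientGroup.mk'_surjective N')]
    · rcases hM with h | h
      · exact Or.inl (Subgroup.map_le_iff_le_comap.mp h)
      · exact Or.inr (Subgroup.map_le_iff_le_comap.mp h)
  · exfalso
    push Not at hstar
    haveI hsolv : Group.IsSolvable G := kegel_wielandt A B hA hB hfac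
    haveI : Nontrivial G := by
      rw [← not_subsingleton_iff_nontrivial]
      intro h
      exact hAtop (Subsingleton.elim _ _)
    obtain ⟨q, N, hq, hNn, hNne, hNp, hNc, _, hmin⟩ :=
      Cfsg.Agent.Lib.Helper10.exists_min_normal_pgroup_of_solvable (G := G)
    haveI := Fact.mk hq
    haveI := hNn
    have hqA := not_dvd_card_of_supplement N hNne hNp hNc hmin A hA hAtop
      (fun N' h1 h2 => (hstar N' h1 h2).1)
    have hqB := not_dvd_card_of_supplement N hNne hNp hNc hmin B hB hBtop
      (fun N' h1 h2 => (hstar N' h1 h2).2)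
    have hqG : q ∣ Nat.card G :=
      (dvd_card_of_ne_bot hNp hNne).trans (Subgroup.card_subgroup_dvd_card N)
    have hdvd : Nat.card G ∣ Nat.card A * Nat.card B := by
      have h1 := Cfsg.Agent.Lib.Helper24.card_mul_set_mul_card_inf A B
      have h2 : (A : Set G) * (B : Set G) = Set.univ := by
        ext g
        simp only [Set.mem_univ, iff_true]
        obtain ⟨a, ha, b, hb, h⟩ := hfac g
        exact Set.mem_mul.mpr ⟨a, ha, b, hb, h.symm⟩
      rw [h2] at h1
      have h3 : Nat.card (Set.univ : Set G) = Nat.card G := Nat.card_congr (Equiv.Set.univ G)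
      rw [h3] at h1
      exact Dvd.intro _ h1
    rcases (Nat.Prime.dvd_mul hq).mp (hqG.trans hdvd) with h | h
    · exact hqA h
    · exact hqB h

theorem normal_factor {G : Type u} [Group G] [Finite G] (A B : Subgroup G)
    (hA : Group.IsNilpotent A) (hB : Group.IsNilpotent B)
    (hfac : ∀ g : G, ∃ a ∈ A, ∃ b ∈ B, g = a * b) (hproper : A ≠ ⊤ ∨ B ≠ ⊤) :
    ∃ N : Subgroup G, N.Normal ∧ N ≠ ⊤ ∧ (A ≤ N ∨ B ≤ N) :=
  normal_factor_aux (Nat.card G) G A B rfl hA hB hfac hproper

end Cfsg.Agent.Lib.Helper96.KW
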